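import Groth.Agent.OmegaAffLib.General
import Groth.Agent.AlgSpLib.ReducedSmooth
import Mathlib.RingTheory.Etale.Descent
import Mathlib.RingTheory.Unramified.Field
import Mathlib.RingTheory.Nilpotent.GeometricallyReduced

/-!
# Differentials kill global functions on universally closed smooth schemes over a field
-/

set_option autoImplicit false
set_option linter.style.haveILetI false
universe u
open CategoryTheory CategoryTheory.Limits AlgebraicGeometry TopologicalSpace Opposite TensorProduct

noncomputable section

namespace OmegaAffLib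

theorem formallyUnramified_of_finite_reduced (K A : Type u) [Field K] [PerfectField K] [CommRing A] [Algebra K A]
    [Module.Finite K A] [_root_.IsReduced A] : Algebra.FormallyUnramified K A := by
  haveI : IsArtinianRing A := IsArtinianRing.of_finite K A
  haveI : Finite (MaximalSpectrum A) := inferInstance
  haveI : ∀ I : MaximalSpectrum A, Algebra.FormallyUnramified K (A ⧸ I.asIdeal) := fun I => by
    letI := Ideal.Quotient.field I.asIdeal
    exact Algebra.FormallyUnramified.of_isSeparable K (A ⧸ I.asIdeal)
  exact Algebra.FormallyUnramified.of_equiv ((IsArtinianRing.equivPi A).restrictScalars K).symm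

theorem d_eq_zero_of_isIntegral (k B : Type u) [Field k] [CommRing B] [Algebra k B] [Algebra.Smooth k B]
    (b : B) (hb : _root_.IsIntegral k b) : KaehlerDifferential.D k B b = 0 := by
  let Kb := AlgebraicClosure k
  let A := Algebra.adjoin k {b}
  haveI : Module.Finite k A := Module.Finite.iff_fg.mpr hb.fg_adjoin_singleton
  haveI : _root_.IsReduced (Kb ⊗[k] B) := by
    have hs : Smooth (Spec.map (CommRingCat.ofHom (algebraMap Kb (Kb ⊗[k] B)))) :=
      (HasRingHomProperty.Spec_iff (P := @Smooth)).2 (RingHom.smooth_algebraMap.2 inferInstance)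
    have := AlgSpLib.isReduced_of_smooth (Spec.map (CommRingCat.ofHom (algebraMap Kb (Kb ⊗[k] B))))
    exact (affine_isReduced_iff (CommRingCat.of (Kb ⊗[k] B))).1 this
  haveI : _root_.IsReduced (Kb ⊗[k] A) := isReduced_of_injective
    (Algebra.TensorProduct.map (AlgHom.id k Kb) A.val)
    (Module.Flat.lTensor_preserves_injective_linearMap (M := Kb) A.val.toLinearMap Subtype.val_injective)
  haveI : Algebra.FormallyUnramified Kb (Kb ⊗[k] A) := formallyUnramified_of_finite_reduced _ _
  haveI : Algebra.FormallyUnramified k A :=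
    Algebra.FormallyUnramified.of_formallyUnramified_tensorProduct_of_faithfullyFlat Kb
  let b' : A := ⟨b, Algebra.self_mem_adjoin_singleton k b⟩
  have h := KaehlerDifferential.map_D k k A B b'
  rw [Subsingleton.elim (KaehlerDifferential.D k A b') 0, map_zero] at h
  exact h.symm

/-- The differential of a smooth universally closed scheme over a field kills global functions. -/
theorem app_top_eq_zero (k : Type u) [Field k] {X : Scheme.{u}} (f : X ⟶ Spec (CommRingCat.of k))
    [UniversallyClosed f] [Smooth f] {Ω' : X.Modules} {d : OmegaSh.Der f Ω'} (hd : OmegaSh.IsUniversal d)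
    (s : Γ(X, ⊤)) : d.app ⊤ s = 0 := by
  refine ModGlueLib.eq_of_locally (M := Ω') (show Γ(Ω', ⊤) from d.app ⊤ s) _ fun x _ => ?_
  obtain ⟨V, hV, U, hU, hx, e, hss⟩ := Smooth.exists_isStandardSmooth f x
  haveI : Subsingleton ↥(Spec (CommRingCat.of k)) := inferInstanceAs (Subsingleton (PrimeSpectrum k))
  obtain rfl : V = ⊤ := top_unique fun y _ => Subsingleton.elim (f x) y ▸ e hx
  refine ⟨U, le_top, hx, ?_⟩
  rw [← der_rs d le_top s, ModGlueLib.rs_zero]
  let K := Γ(Spec (CommRingCat.of k), ⊤)
  let hK : IsField K := MulEquiv.isField (Field.toIsField k)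
    (Scheme.ΓSpecIso (CommRingCat.of k)).commRingCatIsoToRingEquiv.toMulEquiv
  letI : Field K := hK.toField
  let := (f.appLE ⊤ U e).hom.toAlgebra
  haveI : Algebra.IsStandardSmooth K Γ(X, U) := hss
  let b := X.presheaf.map (homOfLE (le_top : U ≤ ⊤)).op s
  have hb : _root_.IsIntegral K b := by
    obtain ⟨p, hp, hp0⟩ := isIntegral_appTop_of_universallyClosed f s
    refine ⟨p, hp, ?_⟩
    show Polynomial.eval₂ (f.appLE ⊤ U e).hom b p = 0
    rw [show (f.appLE ⊤ U e).hom = (X.presheaf.map (homOfLE (le_top : U ≤ ⊤)).op).hom.comp f.appTop.hom from rfl,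
      ← Polynomial.hom_eval₂, hp0, map_zero]
  obtain ⟨φ, hφ⟩ := exists_equiv hd hV hU e
  rw [← hφ b, d_eq_zero_of_isIntegral K Γ(X, U) b hb, map_zero]

end OmegaAffLib

end
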