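import Groth.Agent.AssPointLib.Basic
import Groth.Agent.QCohLib.SerreCrit
import Groth.Agent.DevissLib.Stalk
import Groth.Agent.ModGlueLib.Basic

/-!
# Isomorphisms and epimorphisms of quasi-coherent modules from affine charts
-/

set_option autoImplicit false
set_option linter.style.haveILetI false
universe u
open CategoryTheory CategoryTheory.Limits AlgebraicGeometry TopologicalSpace Opposite
open DevissLib (St gm gm_smul gm_zero gm_app)

noncomputable section

namespace OmegaAffLib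

variable {X : Scheme.{u}} {M N : X.Modules} (φ : M ⟶ N)

theorem gm_sub {U : X.Opens} {x : X} (hx : x ∈ U) (a b : Γ(N, U)) :
    gm N x hx (a - b) = gm N x hx a - gm N x hx b :=
  map_sub (N.presheaf.germ U x hx).hom a b

theorem gm_rs' (L : X.Modules) {U V : X.Opens} (h : V ≤ U) {x : X} (hx : x ∈ V) (s : Γ(L, U)) :
    gm L x hx (ModGlueLib.rs L h s) = gm L x (h hx) s :=
  DevissLib.gm_map L h x hx s

theorem exists_mul_germ_eq' {U : X.Opens} (hU : IsAffineOpen U) {y : X} (hy : y ∈ U)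
    (r : X.presheaf.stalk y) : ∃ c t : Γ(X, U), t ∉ (hU.primeIdealOf ⟨y, hy⟩).asIdeal ∧
      r * X.presheaf.germ U y hy t = X.presheaf.germ U y hy c := by
  let alg := X.presheaf.algebra_section_stalk (⟨y, hy⟩ : U)
  have hloc : IsLocalization.AtPrime (X.presheaf.stalk y) (hU.primeIdealOf ⟨y, hy⟩).asIdeal :=
    hU.isLocalization_stalk ⟨_, hy⟩
  obtain ⟨c, t, rfl⟩ := IsLocalization.exists_mk'_eq (hU.primeIdealOf ⟨y, hy⟩).asIdeal.primeCompl r
  exact ⟨c, t, t.2, IsLocalization.mk'_spec _ c t⟩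

theorem exists_preimage_gm [Coh.IsQCoh N] {U : X.Opens} (hU : IsAffineOpen U) {x : X} (hx : x ∈ U)
    (h : Function.Surjective (φ.app U)) (g : (St x).obj N) : ∃ a, (St x).map φ a = g := by
  obtain ⟨v, s, hv, hvs⟩ := AssPointLib.exists_smul_eq_gm hU hx g
  obtain ⟨t, rfl⟩ := h s
  obtain ⟨u, rfl⟩ := hv
  refine ⟨((u⁻¹ : (X.presheaf.stalk x)ˣ) : X.presheaf.stalk x) • gm M x hx t, ?_⟩
  rw [map_smul, gm_app, ← hvs, smul_smul, Units.inv_mul, one_smul]

/-- A morphism of quasi-coherent modules which is bijective on an affine chart around every point is iso. -/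
theorem isIso_of_bijective_charts [Coh.IsQCoh M] [Coh.IsQCoh N]
    (h : ∀ x : X, ∃ U : X.Opens, IsAffineOpen U ∧ x ∈ U ∧ Function.Bijective (φ.app U)) : IsIso φ := by
  have hb : ∀ x, Function.Bijective ((St x).map φ) := fun x => by
    obtain ⟨U, hU, hx, hU'⟩ := h x
    refine ⟨(injective_iff_map_eq_zero _).mpr fun g hg => ?_, exists_preimage_gm φ hU hx hU'.2⟩
    obtain ⟨v, s, hv, hvs⟩ := AssPointLib.exists_smul_eq_gm hU hx g
    have h0 : gm N x hx (φ.app U s) = 0 := by rw [← gm_app, ← hvs, map_smul, hg, smul_zero]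
    obtain ⟨t, ht, hts⟩ := (DevissLib.gm_eq_zero_iff hU x hx _).mp h0
    have hts' : t • s = 0 := hU'.1 ((Scheme.Modules.Hom.app_smul φ t s).trans (hts.trans (map_zero _).symm))
    refine hv.smul_eq_zero.mp (hvs.trans ((DevissLib.gm_eq_zero_iff hU x hx s).mpr ⟨t, ht, hts'⟩))
  haveI : Mono φ := ⟨fun {P} a b e => Scheme.Modules.hom_ext _ _ fun W => ConcreteCategory.hom_ext _ _ fun t =>
    ModGlueLib.eq_of_locally _ _ fun x hx => by
      have e' : gm M x hx (a.app W t) = gm M x hx (b.app W t) := (hb x).1 (by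
        rw [gm_app, gm_app]
        exact congrArg (fun θ => gm N x hx (θ.app W t)) e)
      obtain ⟨V, hxV, i, i', e''⟩ := TopCat.Presheaf.germ_eq M.presheaf x hx hx _ _ e'
      exact ⟨V, i.le, hxV, e''⟩⟩
  haveI : Epi φ := QCohLib.epi_of_surjective_on_affines φ fun V s p hp => by
    obtain ⟨a, ha⟩ := (hb p).2 (gm N p hp s)
    obtain ⟨W, hpW, t, rfl⟩ := DevissLib.exists_gm_eq M p a
    rw [gm_app] at ha
    obtain ⟨V', hpV', i, i', e⟩ := TopCat.Presheaf.germ_eq N.presheaf p hpW hp _ _ ha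
    refine ⟨V', i'.le, hpV', M.presheaf.map i.op t, ?_⟩
    exact (QCohLib.app_map φ i t).trans e
  exact isIso_of_mono_of_epi φ

theorem epi_of_surjective_charts [Coh.IsQCoh N]
    (h : ∀ x : X, ∃ U : X.Opens, IsAffineOpen U ∧ x ∈ U ∧ Function.Surjective (φ.app U)) : Epi φ :=
  QCohLib.epi_of_surjective_on_affines φ fun V s p hp => by
    obtain ⟨U, hU, hx, hU'⟩ := h p
    obtain ⟨a, ha⟩ := exists_preimage_gm φ hU hx hU' (gm N p hp s)
    obtain ⟨W, hpW, t, rfl⟩ := DevissLib.exists_gm_eq M p a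
    rw [gm_app] at ha
    obtain ⟨V', hpV', i, i', e⟩ := TopCat.Presheaf.germ_eq N.presheaf p hpW hp _ _ ha
    exact ⟨V', i'.le, hpV', M.presheaf.map i.op t, (QCohLib.app_map φ i t).trans e⟩

/-- An epimorphism of quasi-coherent modules is surjective on affine opens. -/
theorem surjective_app_of_epi [Coh.IsQCoh M] [Coh.IsQCoh N] [Epi φ] {U : X.Opens} (hU : IsAffineOpen U) :
    Function.Surjective (φ.app U) := by
  intro s
  let R : Submodule Γ(X, U) Γ(N, U) :=
    { carrier := Set.range (φ.app U)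
      add_mem' := by rintro _ _ ⟨a, rfl⟩ ⟨b, rfl⟩; exact ⟨a + b, map_add _ a b⟩
      zero_mem' := ⟨0, map_zero _⟩
      smul_mem' := by rintro r _ ⟨a, rfl⟩; exact ⟨r • a, Scheme.Modules.Hom.app_smul φ r a⟩ }
  have hs : (1 : Γ(X, U)) ∈ R.comap (LinearMap.toSpanSingleton _ _ s) := by
    by_contra h1
    obtain ⟨m, hm, hle⟩ := Ideal.exists_le_maximal (R.comap (LinearMap.toSpanSingleton _ _ s))
      (fun ht => h1 (ht ▸ Submodule.mem_top))
    let q : PrimeSpectrum Γ(X, U) := ⟨m, hm.isPrime⟩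
    have hxU : hU.fromSpec q ∈ U := by
      have : hU.fromSpec q ∈ Set.range hU.fromSpec := ⟨q, rfl⟩
      rwa [hU.range_fromSpec] at this
    have hpr : (hU.primeIdealOf ⟨hU.fromSpec q, hxU⟩).asIdeal = m := congrArg PrimeSpectrum.asIdeal
      (show _ = q from hU.fromSpec.isOpenEmbedding.injective (hU.fromSpec_primeIdealOf ⟨_, hxU⟩))
    obtain ⟨a, ha⟩ := (ModuleCat.epi_iff_surjective ((St (hU.fromSpec q)).map φ)).mp inferInstance (gm N _ hxU s)
    obtain ⟨v, t, hv, hvt⟩ := AssPointLib.exists_smul_eq_gm hU hxU a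
    obtain ⟨c, t0, ht0, e⟩ := exists_mul_germ_eq' hU hxU v
    have hc : c ∉ (hU.primeIdealOf ⟨hU.fromSpec q, hxU⟩).asIdeal := fun hc => by
      have := AssPointLib.germ_mem_maximal hU hxU hc
      rw [← e] at this
      exact (IsLocalRing.mem_maximalIdeal _).mp this (hv.mul (AssPointLib.isUnit_germ hU hxU ht0))
    have h0 : gm N _ hxU (c • s - φ.app U (t0 • t)) = 0 := by
      rw [gm_sub, ← gm_app φ _ hxU (t0 • t), gm_smul, gm_smul, map_smul, ← hvt, map_smul, ha,
        smul_smul, mul_comm, e, sub_self]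
    obtain ⟨t', ht', htc⟩ := (DevissLib.gm_eq_zero_iff hU _ hxU _).mp h0
    refine absurd (hle (?_ : t' * c ∈ _)) (fun hmem => ?_)
    · refine Submodule.mem_comap.mpr ⟨t' • t0 • t, ?_⟩
      rw [LinearMap.toSpanSingleton_apply, mul_smul, Scheme.Modules.Hom.app_smul]
      rw [smul_sub, sub_eq_zero] at htc
      exact htc.symm
    · rw [← hpr] at hmem
      exact ((hU.primeIdealOf ⟨hU.fromSpec q, hxU⟩).2.mem_or_mem hmem).elim ht' hc
  obtain ⟨a, ha⟩ := Submodule.mem_comap.mp hs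
  exact ⟨a, ha.trans (one_smul _ s)⟩

end OmegaAffLib

end
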