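import Groth.Agent.OmegaAffLib.Consequences
import Groth.Agent.CohBCLib.FreeNhd
import Groth.Agent.FibDimLib.Smooth

/-!
# The sheaf of differentials of a smooth morphism has rank the fibre dimension
-/

set_option autoImplicit false
set_option linter.style.haveILetI false
universe u
open CategoryTheory CategoryTheory.Limits AlgebraicGeometry TopologicalSpace Opposite

noncomputable section

namespace OmegaAffLib

theorem nonempty_restrict_iso_freeMod {X : Scheme.{u}} {U : X.Opens} (hU : IsAffineOpen U) (G : X.Modules)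
    [Coh.IsQCoh G] {n : ℕ} (b : Module.Basis (Fin n) Γ(X, U) Γ(G, U)) :
    Nonempty (G.restrict U.ι ≅ FlatMod.freeMod (↑U) n) := by
  haveI : IsAffine (U : Scheme.{u}) := hU
  haveI : Coh.IsQCoh (G.restrict U.ι) := inferInstance
  have key : ∀ V : X.Opens, V = U → Nonempty (Module.Basis (Fin n) Γ(X, V) Γ(G, V)) := by
    rintro _ rfl
    exact ⟨b⟩
  obtain ⟨b'⟩ := key (U.ι ''ᵁ ⊤) (Scheme.Opens.ι_image_top U)
  refine CohBCLib.nonempty_iso_freeMod _ (Module.Basis.ofRepr
    { toFun := fun x => b'.repr x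
      map_add' := fun x y => b'.repr.map_add x y
      map_smul' := fun c x => ?_
      invFun := fun y => b'.repr.symm y
      left_inv := b'.repr.symm_apply_apply
      right_inv := b'.repr.apply_symm_apply })
  refine (congrArg b'.repr ?_).trans (b'.repr.map_smul c x)
  refine (Scheme.Modules.smul_restrictAppIso_hom_apply U.ι G ⊤ c x).trans ?_
  rw [Scheme.Opens.ι_appIso]
  rfl

theorem exists_free_fibreDim {X Y : Scheme.{u}} {f : X ⟶ Y} [Smooth f] {Ω' : X.Modules} {d : OmegaSh.Der f Ω'}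
    (hd : OmegaSh.IsUniversal d) (x : X) :
    ∃ (U : X.Opens) (n : ℕ), x ∈ U ∧ Nonempty (Ω'.restrict U.ι ≅ FlatMod.freeMod (↑U) n) ∧
      FlatMor.fibreDimAt f x = (n : WithBot ℕ∞) := by
  haveI := isQCoh_of_isUniversal hd
  obtain ⟨V, hV, U, hU, hx, e, hss⟩ := Smooth.exists_isStandardSmooth f x
  let := (f.appLE V U e).hom.toAlgebra
  haveI hss' : Algebra.IsStandardSmooth Γ(Y, V) Γ(X, U) := hss
  obtain ⟨ι, σ, _, _, ⟨P⟩⟩ := hss'.out
  haveI hn : Algebra.IsStandardSmoothOfRelativeDimension P.dimension Γ(Y, V) Γ(X, U) :=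
    ⟨_, _, _, ‹_›, ⟨P, rfl⟩⟩
  haveI : Nonempty (U : Scheme.{u}) := ⟨⟨x, hx⟩⟩
  haveI : Nontrivial Γ(X, U) := inferInstance
  haveI : Algebra.FiniteType Γ(Y, V) Γ(X, U) := f.finiteType_appLE hV hU e
  refine ⟨U, P.dimension, hx, ?_, ?_⟩
  · obtain ⟨φ, -⟩ := exists_equiv hd hV hU e
    exact nonempty_restrict_iso_freeMod hU Ω' ((Module.finBasisOfFinrankEq _ _ (Module.finrank_eq_of_rank_eq
      (Algebra.IsStandardSmoothOfRelativeDimension.rank_kaehlerDifferential (R := Γ(Y, V)) (S := Γ(X, U))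
        P.dimension))).map φ)
  · have h' : RingHom.IsStandardSmoothOfRelativeDimension P.dimension (f.appLE V U e).hom := hn
    obtain ⟨g, hg, het⟩ := h'.exists_etale_mvPolynomial
    exact FibDimLib.fibreDimAt_chart f hV hU e g hg het x hx

end OmegaAffLib

end
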