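import Groth.Agent.OmegaAffLib.Restrict
import Groth.Agent.MiscFlat6.TildeFin

/-!
# Sections of any sheaf of differentials on affine opens
-/

set_option autoImplicit false
set_option linter.style.haveILetI false
universe u
open CategoryTheory CategoryTheory.Limits AlgebraicGeometry TopologicalSpace Opposite
open ModGlueLib (rs rs_rs)

noncomputable section

namespace OmegaAffLib

theorem bijective_desc_congr {A B : CommRingCat.{u}} {φ φ' : A ⟶ B} (hφ : φ = φ') {M M' : ModuleCat.{u} B}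
    (D : M.Derivation φ) (D' : M'.Derivation φ') (σ₀ : M ≃+ M') (hs : ∀ (r : B) (m : M), σ₀ (r • m) = r • σ₀ m)
    (hσ : ∀ b, σ₀ (D.d b) = D'.d b)
    (h : Function.Bijective D.desc) : Function.Bijective D'.desc := by
  subst hφ
  let σ : M ≃ₗ[B] M' := { σ₀ with map_smul' := hs }
  have e : D'.desc = D.desc ≫ σ.toModuleIso.hom := CommRingCat.KaehlerDifferential.ext fun b => by
    rw [D'.desc_d, ← hσ b, ← D.desc_d b]
    rfl
  rw [e]
  exact σ.bijective.comp h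

variable {X Y : Scheme.{u}} {f : X ⟶ Y} {Ω' : X.Modules} {d : OmegaSh.Der f Ω'}
  (hd : OmegaSh.IsUniversal d)
include hd

theorem exists_iso_restrict (V : Y.Opens) (U : X.Opens) (h : U ≤ f ⁻¹ᵁ V) [QuasiSeparated (f.resLE V U h)] :
    ∃ e : Omega.sheaf (f.resLE V U h) ≅ Ω'.restrict U.ι,
      ∀ W s, e.hom.app W (OmegaSh.dSect (f.resLE V U h) W s) = d.app (U.ι ''ᵁ W) s :=
  exists_iso_of_isUniversal isUniversal_dOmega (isUniversal_restrictDer hd)

theorem quasiSeparated_resLE {V : Y.Opens} {U : X.Opens} (hV : IsAffineOpen V) (hU : IsAffineOpen U)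
    (h : U ≤ f ⁻¹ᵁ V) : QuasiSeparated (f.resLE V U h) := by
  haveI : IsAffine (U : Scheme.{u}) := hU
  haveI : IsAffine (V : Scheme.{u}) := hV
  infer_instance

theorem isQCoh_of_isUniversal : Coh.IsQCoh Ω' := by
  choose U hU hxU _ using fun x : X => exists_good (f := f) (show x ∈ (⊤ : X.Opens) from trivial)
  refine QCohLib.isQCoh_of_cover Ω' U (eq_top_iff.mpr fun x _ => Opens.mem_iSup.mpr ⟨x, hxU x⟩) fun x => ?_
  obtain ⟨hUa, V, hV, h⟩ := hU x
  haveI := quasiSeparated_resLE hd hV hUa h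
  obtain ⟨e, -⟩ := exists_iso_restrict hd V (U x) h
  haveI : Coh.IsQCoh (Omega.sheaf (f.resLE V (U x) h)) := by
    haveI := SweepSix.ConormalSpec.isQCoh_idealMod (pullback.diagonal (f.resLE V (U x) h)).ker
    exact KFlatLib.isQCoh_pullback _ _
  exact QCohLib.isQCoh_of_iso e

theorem bijective_desc_aux {V : Y.Opens} {U : X.Opens} (hV : IsAffineOpen V) (hU : IsAffineOpen U)
    (h : U ≤ f ⁻¹ᵁ V) (h' : U.ι ''ᵁ ⊤ ≤ f ⁻¹ᵁ (V.ι ''ᵁ ⊤)) :
    Function.Bijective (derOn d (V.ι ''ᵁ ⊤) (U.ι ''ᵁ ⊤) h').desc := by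
  haveI : IsAffine (U : Scheme.{u}) := hU
  haveI : IsAffine (V : Scheme.{u}) := hV
  haveI := quasiSeparated_resLE hd hV hU h
  obtain ⟨e, he⟩ := exists_iso_restrict hd V U h
  have hle : (⊤ : (U : Scheme.{u}).Opens) ≤ (f.resLE V U h) ⁻¹ᵁ ⊤ := le_of_eq rfl
  let σ : OmAff.sectMod (Omega.sheaf (f.resLE V U h)) ⊤ ≃ₗ[Γ((U : Scheme.{u}), ⊤)]
      OmAff.sectMod (Ω'.restrict U.ι) ⊤ :=
    LinearEquiv.ofBijective
      { toFun := e.hom.app ⊤
        map_add' := map_add _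
        map_smul' := fun r m => Scheme.Modules.Hom.app_smul e.hom r m }
      (ConcreteCategory.bijective_of_isIso (e.hom.app ⊤))
  have h1 : Function.Bijective
      (derOn (restrictDer d V U h) ⊤ ⊤ hle).desc :=
    bijective_desc_congr rfl (OmAff.derSect (f.resLE V U h) ⊤ ⊤ hle) _ σ.toAddEquiv σ.map_smul (fun b => he ⊤ b)
      (bijective_toSect _ (isAffineOpen_top _) (isAffineOpen_top _) hle)
  let τ : Γ(Ω'.restrict U.ι, ⊤) ≃+ Γ(Ω', U.ι ''ᵁ ⊤) := AddEquiv.refl Γ(Ω', U.ι ''ᵁ ⊤)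
  refine bijective_desc_congr (Scheme.Hom.resLE_appLE f h ⊤ ⊤ hle) _ (derOn d _ _ h') τ (fun r m => ?_)
    (fun b => rfl) h1
  show (U.ι.appIso ⊤).inv r • (show Γ(Ω', U.ι ''ᵁ ⊤) from m) = _
  rw [Scheme.Opens.ι_appIso]
  rfl

/-- On an affine pair the sections of a sheaf of differentials are the Kähler differentials. -/
theorem bijective_desc {V : Y.Opens} {U : X.Opens} (hV : IsAffineOpen V) (hU : IsAffineOpen U)
    (h : U ≤ f ⁻¹ᵁ V) : Function.Bijective (derOn d V U h).desc := by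
  have key : ∀ (V' : Y.Opens) (U' : X.Opens), V' = V → U' = U →
      (∀ h' : U' ≤ f ⁻¹ᵁ V', Function.Bijective (derOn d V' U' h').desc) →
      Function.Bijective (derOn d V U h).desc := by
    rintro _ _ rfl rfl H
    exact H h
  exact key _ _ (V.ι_image_top) (U.ι_image_top) fun h' => bijective_desc_aux hd hV hU h h'

/-- The linear equivalence on an affine pair. -/
theorem exists_equiv {V : Y.Opens} {U : X.Opens} (hV : IsAffineOpen V) (hU : IsAffineOpen U) (h : U ≤ f ⁻¹ᵁ V) :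
    letI := (f.appLE V U h).hom.toAlgebra
    ∃ e : Ω[Γ(X, U)⁄Γ(Y, V)] ≃ₗ[Γ(X, U)] Γ(Ω', U), ∀ b, e (KaehlerDifferential.D _ _ b) = d.app U b := by
  let := (f.appLE V U h).hom.toAlgebra
  let ψ : Ω[Γ(X, U)⁄Γ(Y, V)] →ₗ[Γ(X, U)] Γ(Ω', U) := (derOn d V U h).desc.hom
  exact ⟨LinearEquiv.ofBijective ψ (bijective_desc hd hV hU h), fun b => (derOn d V U h).desc_d b⟩

end OmegaAffLib

end
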