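import Groth.Agent.OmegaAffLib.Affine
import Groth.Agent.ModGlueLib.Basic

/-!
# Universality of the derivation into the sheaf of differentials
-/

set_option autoImplicit false
set_option linter.style.haveILetI false
universe u
open CategoryTheory CategoryTheory.Limits AlgebraicGeometry TopologicalSpace Opposite
open ModGlueLib (rs rs_rs eq_of_locally exists_glue)

noncomputable section

namespace OmegaAffLib

variable {X Y : Scheme.{u}} {f : X ⟶ Y} {F : X.Modules}

theorem der_mul (D : OmegaSh.Der f F) (U : X.Opens) (a b : Γ(X, U)) :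
    D.app U (a * b) = a • D.app U b + b • D.app U a :=
  D.d_mul (X := op U) a b

theorem der_rs (D : OmegaSh.Der f F) {U W : X.Opens} (h : W ≤ U) (a : Γ(X, U)) :
    D.app W (X.presheaf.map (homOfLE h).op a) = rs F h (D.app U a) :=
  D.d_map (homOfLE h).op a

theorem der_appLE (D : OmegaSh.Der f F) (V : Y.Opens) (U : X.Opens) (h : U ≤ f ⁻¹ᵁ V) (c : Γ(Y, V)) :
    D.app U (f.appLE V U h c) = 0 := by
  rw [Scheme.Hom.appLE]
  change D.app U (X.presheaf.map (homOfLE h).op (f.app V c)) = 0
  rw [der_rs, show D.app (f ⁻¹ᵁ V) (f.app V c) = 0 from D.d_app (X := op V) c]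
  exact map_zero _

/-- a derivation on sections -/
def derOn (D : OmegaSh.Der f F) (V : Y.Opens) (U : X.Opens) (h : U ≤ f ⁻¹ᵁ V) :
    (OmAff.sectMod F U).Derivation (f.appLE V U h) :=
  ModuleCat.Derivation.mk (fun b => D.app U b) (map_add _) (der_mul D U) (der_appLE D V U h)

variable (f) in
/-- an affine open lying over an affine open -/
def Good (U : X.Opens) : Prop := IsAffineOpen U ∧ ∃ V : Y.Opens, IsAffineOpen V ∧ U ≤ f ⁻¹ᵁ V

theorem exists_good {W : X.Opens} {x : X} (hx : x ∈ W) : ∃ U : X.Opens, Good f U ∧ x ∈ U ∧ U ≤ W := by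
  obtain ⟨V, hV, hxV, -⟩ := exists_isAffineOpen_mem_and_subset (show f.base x ∈ (⊤ : Y.Opens) from trivial)
  obtain ⟨U, hU, hxU, hle⟩ := exists_isAffineOpen_mem_and_subset (show x ∈ W ⊓ f ⁻¹ᵁ V from ⟨hx, hxV⟩)
  exact ⟨U, ⟨hU, V, hV, fun y hy => (hle hy).2⟩, hxU, fun y hy => (hle hy).1⟩

variable [QuasiSeparated f]

theorem span_dSect {U : X.Opens} (hU : Good f U) :
    Submodule.span Γ(X, U) (Set.range (OmegaSh.dSect f U)) = ⊤ := by
  obtain ⟨hU, V, hV, h⟩ := hU
  let := (f.appLE V U h).hom.toAlgebra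
  refine Submodule.eq_top_iff'.mpr fun t => ?_
  obtain ⟨w, rfl⟩ := (bijective_toSect f hV hU h).2 t
  have hw : w ∈ Submodule.span Γ(X, U) (Set.range (_root_.KaehlerDifferential.D Γ(Y, V) Γ(X, U))) := by
    rw [_root_.KaehlerDifferential.span_range_derivation]; trivial
  induction hw using Submodule.span_induction with
  | mem y hy =>
    obtain ⟨b, rfl⟩ := hy
    exact Submodule.subset_span ⟨b, (OmAff.toSect_d f V U h b).symm⟩
  | zero => exact (map_zero (OmAff.toSect f V U h).hom).symm ▸ zero_mem _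
  | add y z _ _ hy hz => exact (map_add (OmAff.toSect f V U h).hom y z).symm ▸ add_mem hy hz
  | smul a y _ hy => exact (map_smul (OmAff.toSect f V U h).hom a y).symm ▸ Submodule.smul_mem _ a hy

/-- semilinear maps out of the sections agreeing on differentials agree -/
theorem eq_of_dSect {U W : X.Opens} (hU : Good f U) (hWU : W ≤ U) {G : X.Modules}
    (g₁ g₂ : Γ(Omega.sheaf f, U) →+ Γ(G, W))
    (h₁ : ∀ (a : Γ(X, U)) t, g₁ (a • t) = X.presheaf.map (homOfLE hWU).op a • g₁ t)
    (h₂ : ∀ (a : Γ(X, U)) t, g₂ (a • t) = X.presheaf.map (homOfLE hWU).op a • g₂ t)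
    (h : ∀ b, g₁ (OmegaSh.dSect f U b) = g₂ (OmegaSh.dSect f U b)) : g₁ = g₂ := by
  ext t
  have ht : t ∈ Submodule.span Γ(X, U) (Set.range (OmegaSh.dSect f U)) := by rw [span_dSect hU]; trivial
  induction ht using Submodule.span_induction with
  | mem y hy => obtain ⟨b, rfl⟩ := hy; exact h b
  | zero => rw [map_zero, map_zero]
  | add y z _ _ hy hz => rw [map_add, map_add, hy, hz]
  | smul a y _ hy => rw [h₁, h₂, hy]

theorem exists_loc (D : OmegaSh.Der f F) {U : X.Opens} (hU : Good f U) :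
    ∃ φ : Γ(Omega.sheaf f, U) →ₗ[Γ(X, U)] Γ(F, U), ∀ b, φ (OmegaSh.dSect f U b) = D.app U b := by
  obtain ⟨hU, V, hV, h⟩ := hU
  haveI := isIso_toSect f hV hU h
  refine ⟨(inv (OmAff.toSect f V U h) ≫ (derOn D V U h).desc).hom, fun b => ?_⟩
  refine Eq.trans ?_ ((derOn D V U h).desc_d b)
  rw [← OmAff.toSect_d f V U h b]
  exact congrArg (derOn D V U h).desc.hom
    ((CategoryTheory.asIso (OmAff.toSect f V U h)).toLinearEquiv.symm_apply_apply _)

theorem isUniversal_dOmega : OmegaSh.IsUniversal (OmegaSh.dOmega f) := by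
  intro F D
  choose φ hφ using fun U : {U : X.Opens // Good f U} => exists_loc D U.2
  have key : ∀ (U U' : {U : X.Opens // Good f U}) (h : U'.1 ≤ U.1) (t : Γ(Omega.sheaf f, U.1)),
      rs F h (φ U t) = φ U' (rs (Omega.sheaf f) h t) := fun U U' h t => by
    refine DFunLike.congr_fun (eq_of_dSect U.2 h
      (AddMonoidHom.mk' (fun t => rs F h (φ U t)) fun a b => by rw [map_add]; exact map_add _ _ _)
      (AddMonoidHom.mk' (fun t => φ U' (rs (Omega.sheaf f) h t)) fun a b => by
        rw [← map_add]; exact congrArg _ (map_add _ a b))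
      (fun a t => ?_) (fun a t => ?_) fun b => ?_) t
    · show rs F h (φ U (a • t)) = _
      rw [map_smul]
      exact F.map_smul _ a _
    · show φ U' (rs (Omega.sheaf f) h (a • t)) = _
      rw [show rs (Omega.sheaf f) h (a • t) = X.presheaf.map (homOfLE h).op a • rs (Omega.sheaf f) h t from
        (Omega.sheaf f).map_smul _ a t, map_smul]
      rfl
    · show rs F h (φ U (OmegaSh.dSect f U.1 b)) = φ U' (rs (Omega.sheaf f) h (OmegaSh.dSect f U.1 b))
      rw [hφ, show rs (Omega.sheaf f) h (OmegaSh.dSect f U.1 b) =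
        OmegaSh.dSect f U'.1 (X.presheaf.map (homOfLE h).op b) from (OmegaSh.dSect_map f h b).symm, hφ, der_rs]
  have main : ∀ (W : X.Opens) (t : Γ(Omega.sheaf f, W)), ∃! s : Γ(F, W),
      ∀ (U : {U : X.Opens // Good f U}) (h : U.1 ≤ W), rs F h s = φ U (rs (Omega.sheaf f) h t) := by
    intro W t
    obtain ⟨s, hs⟩ := exists_glue (M := F) (V := W)
      (fun U : {U : {U : X.Opens // Good f U} // U.1 ≤ W} => U.1.1) (fun U => U.2)
      (fun x hx => by
        obtain ⟨U, hU, hxU, hle⟩ := exists_good (f := f) hx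
        exact ⟨⟨⟨U, hU⟩, hle⟩, hxU⟩)
      (fun U => φ U.1 (rs (Omega.sheaf f) U.2 t)) (fun U U' => by
        refine eq_of_locally _ _ fun x hx => ?_
        obtain ⟨U'', hU'', hx'', hle⟩ := exists_good (f := f) hx
        refine ⟨U'', hle, hx'', ?_⟩
        rw [rs_rs, rs_rs, key U.1 ⟨U'', hU''⟩ (hle.trans inf_le_left),
          key U'.1 ⟨U'', hU''⟩ (hle.trans inf_le_right), rs_rs, rs_rs])
    refine ⟨s, fun U h => hs ⟨U, h⟩, fun s' hs' => eq_of_locally _ _ fun x hx => ?_⟩
    obtain ⟨U, hU, hxU, hle⟩ := exists_good (f := f) hx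
    exact ⟨U, hle, hxU, (hs' ⟨U, hU⟩ hle).trans (hs ⟨⟨U, hU⟩, hle⟩).symm⟩
  choose β hβ hβu using main
  have hadd : ∀ (W : X.Opens) (t t' : Γ(Omega.sheaf f, W)), β W (t + t') = β W t + β W t' := fun W t t' =>
    (hβu W _ _ fun U h => by
      have e1 := hβ W t U h
      have e2 := hβ W t' U h
      simp only [rs, map_add] at e1 e2 ⊢
      rw [e1, e2]).symm
  have hlin : ∀ (W : X.Opens) (r : Γ(X, W)) (t : Γ(Omega.sheaf f, W)), β W (r • t) = r • β W t := fun W r t =>
    (hβu W _ _ fun U h => by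
      rw [show rs (Omega.sheaf f) h (r • t) = X.presheaf.map (homOfLE h).op r • rs (Omega.sheaf f) h t from
        (Omega.sheaf f).map_smul _ r t, map_smul, ← hβ W t U h]
      exact F.map_smul _ r _).symm
  have hnat : ∀ {W W' : X.Opens} (h : W' ≤ W) (t : Γ(Omega.sheaf f, W)),
      β W' (rs (Omega.sheaf f) h t) = rs F h (β W t) := fun {W W'} h t =>
    (hβu W' _ _ fun U h' => by rw [rs_rs, rs_rs]; exact hβ W t U (h'.trans h)).symm
  let α : Omega.sheaf f ⟶ F := ⟨PresheafOfModules.homMk (M₁ := (Omega.sheaf f).val) (M₂ := F.val)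
    { app := fun W => AddCommGrpCat.ofHom
        (AddMonoidHom.mk' (fun t : Γ(Omega.sheaf f, W.unop) => β W.unop t) (hadd W.unop))
      naturality := fun W W' i => by
        ext t
        exact hnat i.unop.le t }
    (fun W r t => hlin W.unop r t)⟩
  refine ⟨α, PresheafOfModules.Derivation.ext ?_, fun α' hα' => ?_⟩
  · funext W
    ext s
    show β W.unop (OmegaSh.dSect f W.unop s) = D.app W.unop s
    refine (hβu W.unop _ _ fun U h => ?_).symm
    rw [show rs (Omega.sheaf f) h (OmegaSh.dSect f W.unop s) =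
      OmegaSh.dSect f U.1 (X.presheaf.map (homOfLE h).op s) from (OmegaSh.dSect_map f h s).symm, hφ]
    exact (der_rs D h s).symm
  · refine Scheme.Modules.hom_ext _ _ fun W => ConcreteCategory.hom_ext _ _ fun t => ?_
    refine hβu W t _ fun U h => ?_
    rw [show rs F h (α'.app W t) = α'.app U.1 (rs (Omega.sheaf f) h t) from (ModGlueLib.app_rs α' h t).symm]
    refine DFunLike.congr_fun (eq_of_dSect U.2 le_rfl (α'.app U.1).hom (φ U).toAddMonoidHom
      (fun a t => ?_) (fun a t => ?_) fun b => ?_) _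
    · refine (Scheme.Modules.Hom.app_smul α' a t).trans ?_
      congr 1
      exact (congr($(X.presheaf.map_id _) a)).symm
    · refine (map_smul (φ U) a t).trans ?_
      congr 1
      exact (congr($(X.presheaf.map_id _) a)).symm
    · refine Eq.trans ?_ (hφ U b).symm
      exact congrArg (fun E : OmegaSh.Der f F => E.app U.1 b) hα'

end OmegaAffLib

end
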