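import Groth.Agent.OmegaAffLib.General
import Groth.Agent.QCohLib.Push

/-!
# The canonical map between sheaves of differentials
-/

set_option autoImplicit false
set_option linter.style.haveILetI false
universe u
open CategoryTheory CategoryTheory.Limits AlgebraicGeometry TopologicalSpace Opposite

noncomputable section

namespace OmegaAffLib

variable {X S X' S' : Scheme.{u}} {f : X ⟶ S} {f' : X' ⟶ S'} {h : X' ⟶ X} {b : S' ⟶ S}
  {Ω : X.Modules} {Ω' : X'.Modules}

/-- The derivation into the direct image defined by a commutative square. -/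
def squareDer (hsq : f' ≫ b = h ≫ f) (d' : OmegaSh.Der f' Ω') :
    OmegaSh.Der f ((Scheme.Modules.pushforward h).obj Ω') where
  d {W} := (d'.app (h ⁻¹ᵁ W.unop)).comp (h.app W.unop).hom.toAddMonoidHom
  d_mul {W} a a' := by
    show d'.app _ (h.app W.unop (a * a')) = h.app W.unop a • d'.app _ (h.app W.unop a') +
      h.app W.unop a' • d'.app _ (h.app W.unop a)
    rw [map_mul]
    exact der_mul d' _ _ _
  d_map {W W'} i a := by
    show d'.app _ (h.app W'.unop (X.presheaf.map i a)) = _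
    refine (congrArg (d'.app _) (congr($(h.naturality i) a))).trans ?_
    exact der_rs d' (h.preimage_mono i.unop.le) (h.app W.unop a)
  d_app {O} c := by
    show d'.app _ (h.app (f ⁻¹ᵁ O.unop) (f.app O.unop c)) = 0
    have e : (f' ≫ b) ⁻¹ᵁ O.unop = (h ≫ f) ⁻¹ᵁ O.unop := by rw [hsq]
    have h1 : f.app O.unop ≫ h.app (f ⁻¹ᵁ O.unop) = (h ≫ f).appLE O.unop (h ⁻¹ᵁ f ⁻¹ᵁ O.unop) le_rfl :=
      by rw [← Scheme.Hom.comp_app, Scheme.Hom.app_eq_appLE]; rfl
    have h2 : (h ≫ f).appLE O.unop (h ⁻¹ᵁ f ⁻¹ᵁ O.unop) le_rfl =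
        b.app O.unop ≫ f'.appLE (b ⁻¹ᵁ O.unop) (h ⁻¹ᵁ f ⁻¹ᵁ O.unop) e.ge := by
      rw [← Scheme.Hom.comp_appLE]
      exact OmegaSh.appLE_congr_hom hsq.symm _ _
    rw [← ConcreteCategory.comp_apply, h1, h2, ConcreteCategory.comp_apply]
    exact der_appLE d' _ _ _ _

theorem existsUnique_diffCompat (hsq : f' ≫ b = h ≫ f) (d : OmegaSh.Der f Ω) (hd : OmegaSh.IsUniversal d)
    (d' : OmegaSh.Der f' Ω') :
    ∃! c : (Scheme.Modules.pullback h).obj Ω ⟶ Ω', OmegaSh.IsDiffCompat h d d' c := by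
  obtain ⟨α, hα, huniq⟩ := hd _ (squareDer hsq d')
  have key : ∀ (c : (Scheme.Modules.pullback h).obj Ω ⟶ Ω') (U : X.Opens) (s : Γ(X, U)),
      ((Scheme.Modules.pullbackPushforwardAdjunction h).homEquiv _ _ c).app U (d.app U s) =
        c.app (h ⁻¹ᵁ U) (OmegaSh.pullSect h Ω U (d.app U s)) := fun c U s => by
    rw [Adjunction.homEquiv_unit]
    rfl
  refine ⟨((Scheme.Modules.pullbackPushforwardAdjunction h).homEquiv _ _).symm α, fun U s => ?_, fun c hc => ?_⟩
  · rw [← key, Equiv.apply_symm_apply]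
    exact congrArg (fun D : OmegaSh.Der f _ => D.app U s) hα
  · rw [Equiv.eq_symm_apply]
    refine huniq _ (PresheafOfModules.Derivation.ext ?_)
    funext W
    ext s
    exact (key c W.unop s).trans (hc W.unop s)

end OmegaAffLib

end
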