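import Groth.Agent.OmegaAffLib.DiffCompat

/-!
# The right exact sequence of sheaves of differentials
-/

set_option autoImplicit false
set_option linter.style.haveILetI false
universe u
open CategoryTheory CategoryTheory.Limits AlgebraicGeometry TopologicalSpace Opposite

noncomputable section

namespace OmegaAffLib

theorem pullbackId_inv_app {X : Scheme.{u}} (M : X.Modules) (U : X.Opens) (s : Γ(M, U)) :
    ((Scheme.Modules.pullbackId X).inv.app M).app U s = OmegaSh.pullSect (𝟙 X) M U s := by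
  have h := unit_conjugateEquiv Adjunction.id (Scheme.Modules.pullbackPushforwardAdjunction (𝟙 X))
    (Scheme.Modules.pullbackId X).hom M
  rw [Scheme.Modules.conjugateEquiv_pullbackId_hom] at h
  have h2 := congr((($h).app U) s)
  simp only [Scheme.Modules.Hom.comp_app, AddCommGrpCat.hom_comp, AddMonoidHom.comp_apply] at h2
  have h3 : ((Scheme.Modules.pullbackId X).hom.app M).app U (OmegaSh.pullSect (𝟙 X) M U s) = s := h2.symm
  conv_lhs => rw [← h3]
  rw [← ConcreteCategory.comp_apply, ← Scheme.Modules.Hom.comp_app, Iso.hom_inv_id_app]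
  rfl

variable {X Y Z : Scheme.{u}} {f : X ⟶ Y} {g : Y ⟶ Z}
  {ΩY : Y.Modules} {dY : OmegaSh.Der g ΩY} {ΩX : X.Modules} {dX : OmegaSh.Der (f ≫ g) ΩX}
  {ΩXY : X.Modules} {dXY : OmegaSh.Der f ΩXY}
  {c₁ : (Scheme.Modules.pullback f).obj ΩY ⟶ ΩX}
  {c₂ : (Scheme.Modules.pullback (𝟙 X)).obj ΩX ⟶ ΩXY}

theorem hom_ext_pullback (hY : OmegaSh.IsUniversal dY) {M : X.Modules}
    {a b : (Scheme.Modules.pullback f).obj ΩY ⟶ M}
    (h : ∀ (U : Y.Opens) (s : Γ(Y, U)), a.app (f ⁻¹ᵁ U) (OmegaSh.pullSect f ΩY U (dY.app U s)) =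
      b.app (f ⁻¹ᵁ U) (OmegaSh.pullSect f ΩY U (dY.app U s))) : a = b := by
  apply ((Scheme.Modules.pullbackPushforwardAdjunction f).homEquiv _ _).injective
  refine (hY _ (dY.postcomp ((Scheme.Modules.pullbackPushforwardAdjunction f).homEquiv _ _ a).val)).unique rfl ?_
  refine PresheafOfModules.Derivation.ext ?_
  funext W
  ext s
  have key : ∀ c : (Scheme.Modules.pullback f).obj ΩY ⟶ M,
      ((Scheme.Modules.pullbackPushforwardAdjunction f).homEquiv _ _ c).app W.unop (dY.app W.unop s) =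
        c.app (f ⁻¹ᵁ W.unop) (OmegaSh.pullSect f ΩY W.unop (dY.app W.unop s)) := fun c => by
    rw [Adjunction.homEquiv_unit]
    rfl
  exact (key b).trans ((h W.unop s).symm.trans (key a).symm)

theorem der_hom_ext {Ω M : X.Modules} {d : OmegaSh.Der f Ω} (hd : OmegaSh.IsUniversal d) {a b : Ω ⟶ M}
    (h : ∀ (U : X.Opens) (s : Γ(X, U)), a.app U (d.app U s) = b.app U (d.app U s)) : a = b := by
  refine (hd _ (d.postcomp a.val)).unique rfl (PresheafOfModules.Derivation.ext ?_)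
  funext W
  ext s
  exact (h W.unop s).symm

theorem proj_d (hc₂ : OmegaSh.IsDiffCompat (𝟙 X) dX dXY c₂) (U : X.Opens) (s : Γ(X, U)) :
    ((Scheme.Modules.pullbackId X).inv.app ΩX ≫ c₂).app U (dX.app U s) = dXY.app U s := by
  rw [Scheme.Modules.Hom.comp_app, ConcreteCategory.comp_apply, pullbackId_inv_app]
  exact hc₂ U s

theorem comp_proj_eq_zero (hY : OmegaSh.IsUniversal dY) (hc₁ : OmegaSh.IsDiffCompat f dY dX c₁)
    (hc₂ : OmegaSh.IsDiffCompat (𝟙 X) dX dXY c₂) :
    c₁ ≫ (Scheme.Modules.pullbackId X).inv.app ΩX ≫ c₂ = 0 := by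
  refine hom_ext_pullback hY fun U s => ?_
  rw [Scheme.Modules.Hom.comp_app, ConcreteCategory.comp_apply, hc₁ U s, proj_d hc₂]
  exact dXY.d_app (X := op U) s

theorem epi_proj (hXY : OmegaSh.IsUniversal dXY) (hc₂ : OmegaSh.IsDiffCompat (𝟙 X) dX dXY c₂) :
    Epi ((Scheme.Modules.pullbackId X).inv.app ΩX ≫ c₂) :=
  ⟨fun a b hab => der_hom_ext hXY fun U s => by
    rw [← proj_d hc₂ U s, ← ConcreteCategory.comp_apply, ← Scheme.Modules.Hom.comp_app, hab]
    rfl⟩

/-- The derivation over `Y` defined by a map out of the differentials over `Z` killing those of `Y`. -/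
def descDer (hc₁ : OmegaSh.IsDiffCompat f dY dX c₁) {M : X.Modules} (φ : ΩX ⟶ M) (hφ : c₁ ≫ φ = 0) :
    OmegaSh.Der f M where
  d {W} := (dX.postcomp φ.val).d (X := W)
  d_mul {W} a b := (dX.postcomp φ.val).d_mul a b
  d_map {W W'} i a := (dX.postcomp φ.val).d_map i a
  d_app {O} c := by
    show φ.app (f ⁻¹ᵁ O.unop) (dX.app (f ⁻¹ᵁ O.unop) (f.app O.unop c)) = 0
    rw [← hc₁ O.unop c, ← ConcreteCategory.comp_apply, ← Scheme.Modules.Hom.comp_app, hφ]
    rfl

theorem exact_seq (hY : OmegaSh.IsUniversal dY) (hX : OmegaSh.IsUniversal dX) (hXY : OmegaSh.IsUniversal dXY)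
    (hc₁ : OmegaSh.IsDiffCompat f dY dX c₁) (hc₂ : OmegaSh.IsDiffCompat (𝟙 X) dX dXY c₂) :
    Epi c₂ ∧ imageSubobject c₁ = kernelSubobject ((Scheme.Modules.pullbackId X).inv.app ΩX ≫ c₂) := by
  haveI := epi_proj hXY hc₂
  have w := comp_proj_eq_zero hY hc₁ hc₂
  refine ⟨epi_of_epi ((Scheme.Modules.pullbackId X).inv.app ΩX) c₂, ?_⟩
  have hS : (ShortComplex.mk c₁ _ w).Exact := by
    refine ShortComplex.exact_of_g_is_cokernel _ ?_
    refine CokernelCofork.IsColimit.ofπ' _ _ fun {M} φ hφ => ⟨(hXY M (descDer hc₁ φ hφ)).choose, ?_⟩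
    refine der_hom_ext hX fun U s => ?_
    rw [Scheme.Modules.Hom.comp_app, ConcreteCategory.comp_apply, proj_d hc₂]
    exact congrArg (fun D : OmegaSh.Der f M => D.app U s) (hXY M (descDer hc₁ φ hφ)).choose_spec.1
  haveI := (ShortComplex.exact_iff_epi_imageToKernel _).mp hS
  haveI : IsIso (imageToKernel c₁ _ w) := isIso_of_mono_of_epi _
  exact Subobject.eq_of_comm (asIso (imageToKernel c₁ _ w)) (imageToKernel_arrow _ _ w)

end OmegaAffLib

end
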