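import Groth.Agent.OmegaAffLib.General

/-!
# Properties of sheaves of differentials
-/

set_option autoImplicit false
set_option linter.style.haveILetI false
universe u
open CategoryTheory CategoryTheory.Limits AlgebraicGeometry TopologicalSpace Opposite

noncomputable section

namespace OmegaAffLib

theorem surjective_specMk {R : Type u} [CommRing R] (I : Ideal R) (hI : I ^ 2 = ⊥) :
    Function.Surjective (Spec.map (CommRingCat.ofHom (Ideal.Quotient.mk I))) := fun p => by
  have hp : (p : PrimeSpectrum R) ∈ Set.range (PrimeSpectrum.comap (Ideal.Quotient.mk I)) := by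
    rw [range_comap_of_surjective _ _ Ideal.Quotient.mk_surjective, Ideal.mk_ker]
    intro x hx
    exact p.2.mem_of_pow_mem 2 (by
      have h2 : x ^ 2 ∈ I ^ 2 := Ideal.pow_mem_pow hx 2
      rw [hI, Ideal.mem_bot] at h2
      rw [h2]; exact zero_mem _)
  exact hp

/-- Formally smooth morphisms of schemes are formally smooth on affine opens. -/
theorem formallySmooth_appLE' {X Y : Scheme.{u}} (f : X ⟶ Y) (hf : MoreMor.IsFormallySmoothHom f)
    {V : Y.Opens} (hV : IsAffineOpen V) {U : X.Opens} (hU : IsAffineOpen U) (e : U ≤ f ⁻¹ᵁ V) :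
    (f.appLE V U e).hom.FormallySmooth := by
  let := (f.appLE V U e).hom.toAlgebra
  change Algebra.FormallySmooth Γ(Y, V) Γ(X, U)
  refine Algebra.FormallySmooth.iff_comp_surjective.2 fun R _ _ I hI g => ?_
  obtain ⟨L, hL1, hL2⟩ := hf R I hI (Spec.map (CommRingCat.ofHom g.toRingHom) ≫ hU.fromSpec)
    (Spec.map (CommRingCat.ofHom (algebraMap Γ(Y, V) R)) ≫ hV.fromSpec) (by
      rw [Category.assoc, ← hV.SpecMap_appLE_fromSpec f hU e, ← Spec.map_comp_assoc,
        ← Spec.map_comp_assoc, ← CommRingCat.ofHom_comp]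
      congr 2
      exact CommRingCat.hom_ext g.comp_algebraMap.symm)
  have hsub : Set.range L ⊆ Set.range hU.fromSpec := by
    rintro _ ⟨p, rfl⟩
    obtain ⟨t, rfl⟩ := surjective_specMk I hI p
    exact ⟨Spec.map (CommRingCat.ofHom g.toRingHom) t, by
      rw [← Scheme.Hom.comp_apply, ← Scheme.Hom.comp_apply, hL1]⟩
  let L' := IsOpenImmersion.lift hU.fromSpec L hsub
  have hL' : L' ≫ hU.fromSpec = L := IsOpenImmersion.lift_fac _ _ hsub
  have hcomm : f.appLE V U e ≫ Spec.preimage L' = CommRingCat.ofHom (algebraMap Γ(Y, V) R) :=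
    Spec.map_injective (by
      rw [← cancel_mono hV.fromSpec, Spec.map_comp, Category.assoc, hV.SpecMap_appLE_fromSpec f hU e,
        ← Category.assoc, Spec.map_preimage, hL', hL2])
  refine ⟨⟨(Spec.preimage L').hom, fun x => congrArg (fun k => k.hom x) hcomm⟩, AlgHom.ext fun x => ?_⟩
  have h' : Spec.preimage L' ≫ CommRingCat.ofHom (Ideal.Quotient.mk I) = CommRingCat.ofHom g.toRingHom :=
    Spec.map_injective (by
      rw [← cancel_mono hU.fromSpec, Spec.map_comp, Category.assoc, Spec.map_preimage, hL', hL1])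
  exact congrArg (fun k => k.hom x) h'

variable {X Y : Scheme.{u}} {f : X ⟶ Y} {Ω' : X.Modules} {d : OmegaSh.Der f Ω'}
  (hd : OmegaSh.IsUniversal d)
include hd

theorem isFT_of_isUniversal [LocallyOfFiniteType f] : CohB1.IsFT Ω' := by
  haveI := isQCoh_of_isUniversal hd
  refine QCohLib.isFT_of_finite fun x => ?_
  obtain ⟨U, ⟨hU, V, hV, h⟩, hxU, -⟩ := exists_good (f := f) (show x ∈ (⊤ : X.Opens) from trivial)
  refine ⟨U, hU, hxU, ?_⟩
  let := (f.appLE V U h).hom.toAlgebra
  haveI : Algebra.FiniteType Γ(Y, V) Γ(X, U) := f.finiteType_appLE hV hU h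
  obtain ⟨e, -⟩ := exists_equiv hd hV hU h
  exact Module.Finite.equiv e

theorem isFP_of_isUniversal [LocallyOfFinitePresentation f] : CohB1.IsFP Ω' := by
  haveI := isQCoh_of_isUniversal hd
  refine RichLib.IsFPAffine.isFP_of_finitePresentation _ fun x => ?_
  obtain ⟨U, ⟨hU, V, hV, h⟩, hxU, -⟩ := exists_good (f := f) (show x ∈ (⊤ : X.Opens) from trivial)
  refine ⟨U, hU, hxU, ?_⟩
  let := (f.appLE V U h).hom.toAlgebra
  haveI : Algebra.FinitePresentation Γ(Y, V) Γ(X, U) := f.finitePresentation_appLE hV hU h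
  obtain ⟨e, -⟩ := exists_equiv hd hV hU h
  exact Module.FinitePresentation.of_equiv e

theorem formallyUnramified_iff_isZero : FormallyUnramified f ↔ IsZero Ω' := by
  constructor
  · intro hf
    rw [IsZero.iff_id_eq_zero]
    refine Scheme.Modules.hom_ext _ _ fun W => ConcreteCategory.hom_ext _ _ fun t => ?_
    refine ModGlueLib.eq_of_locally (M := Ω') (show Γ(Ω', W) from t) _ fun x hx => ?_
    obtain ⟨U, ⟨hU, V, hV, h⟩, hxU, hle⟩ := exists_good (f := f) hx
    refine ⟨U, hle, hxU, ?_⟩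
    let := (f.appLE V U h).hom.toAlgebra
    haveI : Algebra.FormallyUnramified Γ(Y, V) Γ(X, U) := FormallyUnramified.formallyUnramified_appLE f hV hU h
    obtain ⟨e, -⟩ := exists_equiv hd hV hU h
    exact (e.toEquiv.subsingleton_congr.mp inferInstance).elim _ _
  · intro h0
    refine ⟨fun {V} hV {U} hU h => ?_⟩
    let := (f.appLE V U h).hom.toAlgebra
    obtain ⟨e, -⟩ := exists_equiv hd hV hU h
    haveI : Subsingleton Γ(Ω', U) :=
      ⟨fun a b => by
        have hz : (𝟙 Ω' : Ω' ⟶ Ω') = 0 := h0.eq_of_src _ _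
        have key : ∀ c : Γ(Ω', U), c = 0 := fun c => congrArg (fun φ : Ω' ⟶ Ω' => φ.app U c) hz
        rw [key a, key b]⟩
    exact (Algebra.formallyUnramified_iff (R := Γ(Y, V)) (A := Γ(X, U))).mpr (e.toEquiv.subsingleton_congr.mpr inferInstance)

theorem isFinLocFree_of_formallySmooth (hf : MoreMor.IsFormallySmoothHom f) [LocallyOfFiniteType f] :
    FlatMod.IsFinLocFree Ω' := by
  haveI := isQCoh_of_isUniversal hd
  have key : ∀ x : X, ∃ U : X.Opens, IsAffineOpen U ∧ x ∈ U ∧
      Module.FinitePresentation Γ(X, U) Γ(Ω', U) ∧ Module.Flat Γ(X, U) Γ(Ω', U) := fun x => by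
    obtain ⟨U, ⟨hU, V, hV, h⟩, hxU, -⟩ := exists_good (f := f) (show x ∈ (⊤ : X.Opens) from trivial)
    refine ⟨U, hU, hxU, ?_⟩
    let := (f.appLE V U h).hom.toAlgebra
    haveI : Algebra.FiniteType Γ(Y, V) Γ(X, U) := f.finiteType_appLE hV hU h
    haveI : Algebra.FormallySmooth Γ(Y, V) Γ(X, U) := formallySmooth_appLE' f hf hV hU h
    obtain ⟨e, -⟩ := exists_equiv hd hV hU h
    haveI := Module.finitePresentation_of_projective Γ(X, U) (Ω[Γ(X, U)⁄Γ(Y, V)])
    exact ⟨Module.FinitePresentation.of_equiv e, Module.Flat.of_linearEquiv e.symm⟩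
  refine Groth.Agent.S1688.isFinLocFree_of_isFP_of_flat
    (RichLib.IsFPAffine.isFP_of_finitePresentation _ fun x => ?_) fun x => ?_
  · obtain ⟨U, hU, hxU, h1, -⟩ := key x
    exact ⟨U, hU, hxU, h1⟩
  · obtain ⟨U, hU, hxU, -, h2⟩ := key x
    exact MiscFlat6.isFlat_of_flat_sections Ω' hU hxU

end OmegaAffLib

end
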