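import Groth.Agent.OmegaAffLib.DiffCompat
import Groth.Agent.QCohLib.Push

/-!
# Homomorphisms out of a quasi-coherent module on an affine scheme are given by global sections
-/

set_option autoImplicit false
set_option linter.style.haveILetI false
universe u
open CategoryTheory CategoryTheory.Limits AlgebraicGeometry TopologicalSpace Opposite

noncomputable section

namespace OmegaAffLib

theorem bijective_moduleSpecΓ_map {R : CommRingCat.{u}} (M N : (Spec R).Modules) [IsIso M.fromTildeΓ] :
    Function.Bijective (fun g : M ⟶ N => (moduleSpecΓFunctor (R := R)).map g) := by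
  let adj := tilde.adjunction (R := R)
  haveI : IsIso (adj.counit.app M) := inferInstanceAs (IsIso M.fromTildeΓ)
  have key : ∀ g : M ⟶ N, adj.homEquiv _ _ (adj.counit.app M ≫ g) = (moduleSpecΓFunctor (R := R)).map g :=
    fun g => by
      rw [Adjunction.homEquiv_naturality_right, Adjunction.homEquiv_unit, adj.right_triangle_components]
      exact Category.id_comp _
  refine ⟨fun g g' h => ?_, fun φ => ⟨inv (adj.counit.app M) ≫ (adj.homEquiv _ _).symm φ, ?_⟩⟩
  · rw [← cancel_epi (adj.counit.app M)]
    exact (adj.homEquiv _ _).injective ((key g).trans (h.trans (key g').symm))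
  · show (moduleSpecΓFunctor (R := R)).map _ = φ
    rw [← key, IsIso.hom_inv_id_assoc, Equiv.apply_symm_apply]

/-- A linear map on global sections extends uniquely, for a quasi-coherent source on an affine scheme. -/
theorem exists_hom_of_top {X : Scheme.{u}} [IsAffine X] (M N : X.Modules) [Coh.IsQCoh M]
    (ψ : Γ(M, ⊤) →+ Γ(N, ⊤)) (hψ : ∀ (a : Γ(X, ⊤)) (t : Γ(M, ⊤)), ψ (a • t) = a • ψ t) :
    ∃! α : M ⟶ N, ∀ t, α.app ⊤ t = ψ t := by
  let e := X.isoSpec.hom
  haveI : Coh.IsQCoh ((Scheme.Modules.pushforward e).obj M) := QCohLib.isQCoh_pushforward e M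
  haveI := Scheme.Modules.isIso_fromTildeΓ_of_isQuasicoherent ((Scheme.Modules.pushforward e).obj M)
  let A := (moduleSpecΓFunctor (R := Γ(X, ⊤))).obj ((Scheme.Modules.pushforward e).obj M)
  let B := (moduleSpecΓFunctor (R := Γ(X, ⊤))).obj ((Scheme.Modules.pushforward e).obj N)
  let l : A →ₗ[Γ(X, ⊤)] B :=
    { toFun := fun t => ψ t
      map_add' := fun a b => map_add ψ a b
      map_smul' := fun r t => hψ _ t }
  let φ : A ⟶ B := ConcreteCategory.ofHom (C := ModuleCat Γ(X, ⊤)) (X := A) (Y := B) l
  obtain ⟨g, hg⟩ := (bijective_moduleSpecΓ_map _ _).2 φ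
  refine ⟨(Scheme.Modules.pushforward e).preimage g, fun t => ?_, fun α hα => ?_⟩
  · show ((Scheme.Modules.pushforward e).map ((Scheme.Modules.pushforward e).preimage g)).app ⊤ t = _
    rw [Functor.map_preimage]
    exact congr($hg t)
  · apply (Scheme.Modules.pushforward e).map_injective
    rw [Functor.map_preimage]
    apply (bijective_moduleSpecΓ_map _ _).1
    refine Eq.trans ?_ hg.symm
    ext t
    exact hα t

end OmegaAffLib

end
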