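import Groth.Agent.OmegaAffLib.Chart
import Groth.Agent.RpushLib.HBase
import Groth.Agent.KFlatLib.QCohPull

/-!
# Base change, etale invariance and the unramified criterion for sheaves of differentials
-/

set_option autoImplicit false
set_option linter.style.haveILetI false
universe u
open CategoryTheory CategoryTheory.Limits AlgebraicGeometry TopologicalSpace Opposite TensorProduct

noncomputable section

namespace OmegaAffLib

section Algebra

variable (R A R' A' : Type u) [CommRing R] [CommRing A] [CommRing R'] [CommRing A'] [Algebra R A]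
  [Algebra R R'] [Algebra R' A'] [Algebra A A'] [Algebra R A'] [IsScalarTower R A A'] [IsScalarTower R R' A']
  [SMulCommClass R' A A']

theorem isBaseChange_map_of_isPushout [Algebra.IsPushout R R' A A'] :
    IsBaseChange A' (KaehlerDifferential.map R R' A A') := by
  refine IsBaseChange.of_equiv (KaehlerDifferential.tensorKaehlerEquiv R R' A A') fun w => ?_
  have hw : w ∈ Submodule.span A (Set.range (KaehlerDifferential.D R A)) := by
    rw [KaehlerDifferential.span_range_derivation]; trivial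
  induction hw using Submodule.span_induction with
  | mem y hy => obtain ⟨a, rfl⟩ := hy; simp
  | zero => simp
  | add y z _ _ hy hz => simp [TensorProduct.tmul_add, hy, hz]
  | smul a y _ hy =>
    rw [TensorProduct.tmul_smul, ← algebraMap_smul A' a ((1 : A') ⊗ₜ[A] y), map_smul, hy,
      algebraMap_smul, map_smul]

theorem map_comp_map (w : Ω[A⁄R]) : KaehlerDifferential.map R R' A A' w =
    KaehlerDifferential.map R R' A' A' (KaehlerDifferential.map R R A A' w) := by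
  have hw : w ∈ Submodule.span A (Set.range (KaehlerDifferential.D R A)) := by
    rw [KaehlerDifferential.span_range_derivation]; trivial
  induction hw using Submodule.span_induction with
  | mem y hy => obtain ⟨a, rfl⟩ := hy; simp
  | zero => simp
  | add y z _ _ hy hz => simp [hy, hz]
  | smul a y _ hy =>
    rw [map_smul, map_smul, hy, ← algebraMap_smul A' a (KaehlerDifferential.map R R A A' y), map_smul,
      algebraMap_smul]

theorem isBaseChange_map_of_etale [Algebra.FormallyEtale A A'] [Algebra.FormallyUnramified R R'] :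
    IsBaseChange A' (KaehlerDifferential.map R R' A A') := by
  have hb : Function.Bijective (KaehlerDifferential.map R R' A' A') := by
    refine ⟨(injective_iff_map_eq_zero _).mpr fun x hx => ?_, KaehlerDifferential.map_surjective R R' A'⟩
    obtain ⟨y, rfl⟩ := (KaehlerDifferential.exact_mapBaseChange_map R R' A' x).mp hx
    haveI : Subsingleton Ω[R'⁄R] := Algebra.FormallyUnramified.subsingleton_kaehlerDifferential
    rw [Subsingleton.elim y 0, map_zero]
  refine IsBaseChange.of_equiv ((KaehlerDifferential.isBaseChange_of_formallyEtale R A A').equiv.trans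
    (LinearEquiv.ofBijective (KaehlerDifferential.map R R' A' A') hb)) fun w => ?_
  rw [LinearEquiv.trans_apply, IsBaseChange.equiv_tmul, one_smul]
  exact (map_comp_map R A R' A' w).symm

theorem span_map_eq_top_iff :
    Submodule.span A' (Set.range (KaehlerDifferential.map R R A A')) = ⊤ ↔
      Algebra.FormallyUnramified A A' := by
  have h1 : LinearMap.range (KaehlerDifferential.mapBaseChange R A A') =
      Submodule.span A' (Set.range (KaehlerDifferential.map R R A A')) := by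
    refine le_antisymm ?_ (Submodule.span_le.mpr ?_)
    · rintro _ ⟨x, rfl⟩
      induction x using TensorProduct.induction_on with
      | zero => simp
      | tmul a w =>
        rw [KaehlerDifferential.mapBaseChange_tmul]
        exact Submodule.smul_mem _ _ (Submodule.subset_span ⟨w, rfl⟩)
      | add x y hx hy => rw [map_add]; exact add_mem hx hy
    · rintro _ ⟨w, rfl⟩
      exact ⟨1 ⊗ₜ w, by simp⟩
  rw [← h1, KaehlerDifferential.range_mapBaseChange, LinearMap.ker_eq_top, Algebra.formallyUnramified_iff]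
  refine ⟨fun h => ⟨fun x y => ?_⟩, fun h => Subsingleton.elim _ _⟩
  obtain ⟨x, rfl⟩ := KaehlerDifferential.map_surjective R A A' x
  obtain ⟨y, rfl⟩ := KaehlerDifferential.map_surjective R A A' y
  rw [h]; rfl

end Algebra

variable {X S X' S' : Scheme.{u}} {f : X ⟶ S} {f' : X' ⟶ S'} {h : X' ⟶ X}
  {Ω : X.Modules} {Ω' : X'.Modules} {d : OmegaSh.Der f Ω} {d' : OmegaSh.Der f' Ω'}
  {c : (Scheme.Modules.pullback h).obj Ω ⟶ Ω'}

theorem appLE_square {b : S' ⟶ S} (hsq : f' ≫ b = h ≫ f) {V : S.Opens} {U : X.Opens} {V' : S'.Opens}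
    {U' : X'.Opens} (e₁ : U ≤ f ⁻¹ᵁ V) (e₂ : U' ≤ f' ⁻¹ᵁ V') (e₃ : V' ≤ b ⁻¹ᵁ V) (hU' : U' ≤ h ⁻¹ᵁ U) :
    (h.appLE U U' hU').hom.comp (f.appLE V U e₁).hom = (f'.appLE V' U' e₂).hom.comp (b.appLE V V' e₃).hom := by
  rw [← CommRingCat.hom_comp, ← CommRingCat.hom_comp, Scheme.Hom.appLE_comp_appLE, Scheme.Hom.appLE_comp_appLE]
  exact congrArg CommRingCat.Hom.hom (OmegaSh.appLE_congr_hom hsq.symm _ _)

theorem isIso_of_isPullback {b : S' ⟶ S} (hsq : IsPullback h f' f b) (hd : OmegaSh.IsUniversal d)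
    (hd' : OmegaSh.IsUniversal d') (hc : OmegaSh.IsDiffCompat h d d' c) : IsIso c := by
  haveI : Coh.IsQCoh Ω := isQCoh_of_isUniversal hd
  haveI : Coh.IsQCoh ((Scheme.Modules.pullback h).obj Ω) := KFlatLib.isQCoh_pullback h Ω
  haveI : Coh.IsQCoh Ω' := isQCoh_of_isUniversal hd'
  refine isIso_of_bijective_charts c fun x => ?_
  obtain ⟨V, hV, hxV, -⟩ := exists_isAffineOpen_mem_and_subset
    (show b (f' x) ∈ (⊤ : S.Opens) from trivial)
  obtain ⟨V', hV', hxV', e₃⟩ := exists_isAffineOpen_mem_and_subset (show f' x ∈ b ⁻¹ᵁ V from hxV)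
  have hfx : f (h x) ∈ V := by
    have : f (h x) = b (f' x) := by rw [← Scheme.Hom.comp_apply, ← Scheme.Hom.comp_apply, hsq.w]
    rw [this]; exact hxV
  obtain ⟨U, hU, hxU, e₁⟩ := exists_isAffineOpen_mem_and_subset (show h x ∈ f ⁻¹ᵁ V from hfx)
  refine ⟨h ⁻¹ᵁ U ⊓ f' ⁻¹ᵁ V', RpushLib.isAffineOpen_fibre hsq hV hV' e₃ hU e₁, ⟨hxU, hxV'⟩, ?_⟩
  letI := (f.appLE V U e₁).hom.toAlgebra
  letI := (b.appLE V V' e₃).hom.toAlgebra
  letI := (f'.appLE V' (h ⁻¹ᵁ U ⊓ f' ⁻¹ᵁ V') inf_le_right).hom.toAlgebra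
  letI := (h.appLE U (h ⁻¹ᵁ U ⊓ f' ⁻¹ᵁ V') inf_le_left).hom.toAlgebra
  letI := ((f'.appLE V' (h ⁻¹ᵁ U ⊓ f' ⁻¹ᵁ V') inf_le_right).hom.comp (b.appLE V V' e₃).hom).toAlgebra
  haveI : IsScalarTower Γ(S, V) Γ(S', V') Γ(X', h ⁻¹ᵁ U ⊓ f' ⁻¹ᵁ V') := IsScalarTower.of_algebraMap_eq' rfl
  haveI : IsScalarTower Γ(S, V) Γ(X, U) Γ(X', h ⁻¹ᵁ U ⊓ f' ⁻¹ᵁ V') :=
    IsScalarTower.of_algebraMap_eq' (appLE_square hsq.w.symm e₁ inf_le_right e₃ inf_le_left).symm
  haveI : SMulCommClass Γ(S', V') Γ(X, U) Γ(X', h ⁻¹ᵁ U ⊓ f' ⁻¹ᵁ V') :=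
    ⟨fun r a z => by
      rw [Algebra.smul_def, Algebra.smul_def, Algebra.smul_def, Algebra.smul_def]
      exact mul_left_comm _ _ _⟩
  have hpo := RpushLib.isPushout_sections hsq hV hV' e₃ hU e₁
  haveI : Algebra.IsPushout Γ(S, V) Γ(S', V') Γ(X, U) Γ(X', h ⁻¹ᵁ U ⊓ f' ⁻¹ᵁ V') :=
    CommRingCat.isPushout_iff_isPushout.mp hpo.flip
  exact (chart_facts hd hd' hc hV hU e₁ hV' (RpushLib.isAffineOpen_fibre hsq hV hV' e₃ hU e₁) inf_le_right
    inf_le_left rfl rfl rfl).1 (isBaseChange_map_of_isPushout _ _ _ _)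

theorem isIso_of_etale {b : S' ⟶ S} [Etale h] [Etale b] (hsq : h ≫ f = f' ≫ b) (hd : OmegaSh.IsUniversal d)
    (hd' : OmegaSh.IsUniversal d') (hc : OmegaSh.IsDiffCompat h d d' c) : IsIso c := by
  haveI : Coh.IsQCoh Ω := isQCoh_of_isUniversal hd
  haveI : Coh.IsQCoh ((Scheme.Modules.pullback h).obj Ω) := KFlatLib.isQCoh_pullback h Ω
  haveI : Coh.IsQCoh Ω' := isQCoh_of_isUniversal hd'
  refine isIso_of_bijective_charts c fun x => ?_
  obtain ⟨V, hV, hxV, -⟩ := exists_isAffineOpen_mem_and_subset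
    (show b (f' x) ∈ (⊤ : S.Opens) from trivial)
  obtain ⟨V', hV', hxV', e₃⟩ := exists_isAffineOpen_mem_and_subset (show f' x ∈ b ⁻¹ᵁ V from hxV)
  have hfx : f (h x) ∈ V := by
    have : f (h x) = b (f' x) := by rw [← Scheme.Hom.comp_apply, ← Scheme.Hom.comp_apply, hsq]
    rw [this]; exact hxV
  obtain ⟨U, hU, hxU, e₁⟩ := exists_isAffineOpen_mem_and_subset (show h x ∈ f ⁻¹ᵁ V from hfx)
  obtain ⟨U', hU'a, hxU', hle⟩ := exists_isAffineOpen_mem_and_subset
    (show x ∈ h ⁻¹ᵁ U ⊓ f' ⁻¹ᵁ V' from ⟨hxU, hxV'⟩)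
  have e₂ : U' ≤ f' ⁻¹ᵁ V' := fun y hy => (hle hy).2
  have hU' : U' ≤ h ⁻¹ᵁ U := fun y hy => (hle hy).1
  refine ⟨U', hU'a, hxU', ?_⟩
  letI := (f.appLE V U e₁).hom.toAlgebra
  letI := (b.appLE V V' e₃).hom.toAlgebra
  letI := (f'.appLE V' U' e₂).hom.toAlgebra
  letI := (h.appLE U U' hU').hom.toAlgebra
  letI := ((f'.appLE V' U' e₂).hom.comp (b.appLE V V' e₃).hom).toAlgebra
  haveI : IsScalarTower Γ(S, V) Γ(S', V') Γ(X', U') := IsScalarTower.of_algebraMap_eq' rfl
  haveI : IsScalarTower Γ(S, V) Γ(X, U) Γ(X', U') :=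
    IsScalarTower.of_algebraMap_eq' (appLE_square hsq.symm e₁ e₂ e₃ hU').symm
  haveI : SMulCommClass Γ(S', V') Γ(X, U) Γ(X', U') := ⟨fun r a z => by
      rw [Algebra.smul_def, Algebra.smul_def, Algebra.smul_def, Algebra.smul_def]
      exact mul_left_comm _ _ _⟩
  haveI : Algebra.Etale Γ(X, U) Γ(X', U') := h.etale_appLE hU hU'a hU'
  haveI : Algebra.Etale Γ(S, V) Γ(S', V') := b.etale_appLE hV hV' e₃
  exact (chart_facts hd hd' hc hV hU e₁ hV' hU'a e₂ hU' rfl rfl rfl).1 (isBaseChange_map_of_etale _ _ _ _)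

theorem formallyUnramified_iff_epi {Y : Scheme.{u}} {g : Y ⟶ S} {k : X' ⟶ S} {p : X' ⟶ Y} (w : p ≫ g = k)
    {ΩY : Y.Modules} {dY : OmegaSh.Der g ΩY} (hY : OmegaSh.IsUniversal dY) {ΩX : X'.Modules}
    {dX : OmegaSh.Der k ΩX} (hX : OmegaSh.IsUniversal dX) {c : (Scheme.Modules.pullback p).obj ΩY ⟶ ΩX}
    (hc : OmegaSh.IsDiffCompat p dY dX c) : FormallyUnramified p ↔ Epi c := by
  haveI : Coh.IsQCoh ΩY := isQCoh_of_isUniversal hY
  haveI : Coh.IsQCoh ((Scheme.Modules.pullback p).obj ΩY) := KFlatLib.isQCoh_pullback p ΩY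
  haveI : Coh.IsQCoh ΩX := isQCoh_of_isUniversal hX
  have key : ∀ {V : S.Opens} {U : Y.Opens} {U' : X'.Opens} (hV : IsAffineOpen V) (hU : IsAffineOpen U)
      (hU'a : IsAffineOpen U') (e₁ : U ≤ g ⁻¹ᵁ V) (hU' : U' ≤ p ⁻¹ᵁ U),
      Function.Surjective (c.app U') ↔ (p.appLE U U' hU').hom.FormallyUnramified := by
    intro V U U' hV hU hU'a e₁ hU'
    have e₂ : U' ≤ k ⁻¹ᵁ V := by
      subst w
      exact fun y hy => e₁ (hU' hy)
    letI := (g.appLE V U e₁).hom.toAlgebra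
    letI := (p.appLE U U' hU').hom.toAlgebra
    letI := (k.appLE V U' e₂).hom.toAlgebra
    haveI : IsScalarTower Γ(S, V) Γ(Y, U) Γ(X', U') := IsScalarTower.of_algebraMap_eq' (by
      show (k.appLE V U' e₂).hom = (p.appLE U U' hU').hom.comp (g.appLE V U e₁).hom
      rw [← CommRingCat.hom_comp, Scheme.Hom.appLE_comp_appLE]
      exact congrArg CommRingCat.Hom.hom (OmegaSh.appLE_congr_hom w.symm _ _))
    haveI : SMulCommClass Γ(S, V) Γ(Y, U) Γ(X', U') := ⟨fun r a z => by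
      rw [Algebra.smul_def, Algebra.smul_def, Algebra.smul_def, Algebra.smul_def]
      exact mul_left_comm _ _ _⟩
    exact ((chart_facts hY hX hc hV hU e₁ hV hU'a e₂ hU' rfl rfl rfl).2).trans
      (span_map_eq_top_iff Γ(S, V) Γ(Y, U) Γ(X', U'))
  have charts : ∀ x : X', ∃ (V : S.Opens) (U : Y.Opens) (U' : X'.Opens) (hU' : U' ≤ p ⁻¹ᵁ U),
      IsAffineOpen V ∧ IsAffineOpen U ∧ IsAffineOpen U' ∧ U ≤ g ⁻¹ᵁ V ∧ x ∈ U' := fun x => by
    obtain ⟨V, hV, hxV, -⟩ := exists_isAffineOpen_mem_and_subset (show g (p x) ∈ (⊤ : S.Opens) from trivial)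
    obtain ⟨U, hU, hxU, e₁⟩ := exists_isAffineOpen_mem_and_subset (show p x ∈ g ⁻¹ᵁ V from hxV)
    obtain ⟨U', hU'a, hxU', hle⟩ := exists_isAffineOpen_mem_and_subset (show x ∈ p ⁻¹ᵁ U from hxU)
    exact ⟨V, U, U', hle, hV, hU, hU'a, e₁, hxU'⟩
  constructor
  · intro hp
    refine epi_of_surjective_charts c fun x => ?_
    obtain ⟨V, U, U', hU', hV, hU, hU'a, e₁, hxU'⟩ := charts x
    exact ⟨U', hU'a, hxU', (key hV hU hU'a e₁ hU').mpr (p.formallyUnramified_appLE hU hU'a hU')⟩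
  · intro he
    refine (HasRingHomProperty.iff_exists_appLE (P := @FormallyUnramified)
      (RingHom.FormallyUnramified.stableUnderComposition.stableUnderCompositionWithLocalizationAway RingHom.FormallyUnramified.holdsForLocalizationAway).left).mpr fun x => ?_
    obtain ⟨V, U, U', hU', hV, hU, hU'a, e₁, hxU'⟩ := charts x
    exact ⟨⟨U, hU⟩, ⟨U', hU'a⟩, hxU', hU', (key hV hU hU'a e₁ hU').mp (surjective_app_of_epi c hU'a)⟩

end OmegaAffLib

end
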