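import Groth.Agent.OmegaAffLib.DiffCompat
import Groth.Agent.OmegaAffLib.StalkCrit

/-!
# The canonical map of differentials on affine charts
-/

set_option autoImplicit false
set_option linter.style.haveILetI false
universe u
open CategoryTheory CategoryTheory.Limits AlgebraicGeometry TopologicalSpace Opposite TensorProduct

noncomputable section

namespace OmegaAffLib

variable {X S X' S' : Scheme.{u}} {f : X ⟶ S} {f' : X' ⟶ S'} {h : X' ⟶ X}
  {Ω : X.Modules} {Ω' : X'.Modules} {d : OmegaSh.Der f Ω} {d' : OmegaSh.Der f' Ω'}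
  {c : (Scheme.Modules.pullback h).obj Ω ⟶ Ω'}

/-- The composite of the canonical map with pulling back a section. -/
def chartMap (c : (Scheme.Modules.pullback h).obj Ω ⟶ Ω') (U : X.Opens) (U' : X'.Opens) (hU' : U' ≤ h ⁻¹ᵁ U) :
    Γ(Ω, U) →+ Γ(Ω', U') :=
  (c.app U').hom.comp (KFlatLib.puSecLE h Ω hU')

theorem chartMap_d (hc : OmegaSh.IsDiffCompat h d d' c) {U : X.Opens} {U' : X'.Opens} (hU' : U' ≤ h ⁻¹ᵁ U)
    (s : Γ(X, U)) : chartMap c U U' hU' (d.app U s) = d'.app U' (h.appLE U U' hU' s) := by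
  refine (QCohLib.app_map c (homOfLE hU') _).trans ?_
  refine (congrArg (Ω'.presheaf.map (homOfLE hU').op) (hc U s)).trans ?_
  exact (der_rs d' hU' (h.app U s)).symm

theorem chartMap_smul {U : X.Opens} {U' : X'.Opens} (hU' : U' ≤ h ⁻¹ᵁ U)
    (a : Γ(X, U)) (t : Γ(Ω, U)) :
    chartMap c U U' hU' (a • t) = h.appLE U U' hU' a • chartMap c U U' hU' t :=
  (congrArg (c.app U') (KFlatLib.puSecLE_smul h Ω hU' a t)).trans (Scheme.Modules.Hom.app_smul c _ _)

theorem exists_equiv_alg (hd : OmegaSh.IsUniversal d) {V : S.Opens} {U : X.Opens} (hV : IsAffineOpen V)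
    (hU : IsAffineOpen U) (e₁ : U ≤ f ⁻¹ᵁ V) [alg : Algebra Γ(S, V) Γ(X, U)]
    (hA : algebraMap Γ(S, V) Γ(X, U) = (f.appLE V U e₁).hom) :
    ∃ e : Ω[Γ(X, U)⁄Γ(S, V)] ≃ₗ[Γ(X, U)] Γ(Ω, U), ∀ b, e (KaehlerDifferential.D _ _ b) = d.app U b := by
  obtain rfl : alg = (f.appLE V U e₁).hom.toAlgebra := Algebra.algebra_ext _ _ fun r => congr($hA r)
  exact exists_equiv hd hV hU e₁

/-- Bijectivity and surjectivity on a chart, from the algebra. -/
theorem chart_facts (hd : OmegaSh.IsUniversal d) (hd' : OmegaSh.IsUniversal d')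
    (hc : OmegaSh.IsDiffCompat h d d' c)
    {V : S.Opens} {U : X.Opens} {V' : S'.Opens} {U' : X'.Opens} (hV : IsAffineOpen V) (hU : IsAffineOpen U)
    (e₁ : U ≤ f ⁻¹ᵁ V) (hV' : IsAffineOpen V') (hU'a : IsAffineOpen U') (e₂ : U' ≤ f' ⁻¹ᵁ V')
    (hU' : U' ≤ h ⁻¹ᵁ U) [Algebra Γ(S, V) Γ(X, U)] [Algebra Γ(S', V') Γ(X', U')] [Algebra Γ(S, V) Γ(S', V')]
    [Algebra Γ(X, U) Γ(X', U')] [Algebra Γ(S, V) Γ(X', U')] [IsScalarTower Γ(S, V) Γ(X, U) Γ(X', U')]
    [IsScalarTower Γ(S, V) Γ(S', V') Γ(X', U')] [SMulCommClass Γ(S', V') Γ(X, U) Γ(X', U')]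
    (hA : algebraMap Γ(S, V) Γ(X, U) = (f.appLE V U e₁).hom)
    (hA' : algebraMap Γ(S', V') Γ(X', U') = (f'.appLE V' U' e₂).hom)
    (hh : algebraMap Γ(X, U) Γ(X', U') = (h.appLE U U' hU').hom) :
    (IsBaseChange Γ(X', U') (KaehlerDifferential.map Γ(S, V) Γ(S', V') Γ(X, U) Γ(X', U')) →
      Function.Bijective (c.app U')) ∧
    (Function.Surjective (c.app U') ↔
      Submodule.span Γ(X', U') (Set.range (KaehlerDifferential.map Γ(S, V) Γ(S', V') Γ(X, U) Γ(X', U'))) = ⊤) := by
  haveI : Coh.IsQCoh Ω := isQCoh_of_isUniversal hd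
  obtain ⟨e, he⟩ := exists_equiv_alg hd hV hU e₁ hA
  obtain ⟨e', he'⟩ := exists_equiv_alg hd' hV' hU'a e₂ hA'
  letI : Module Γ(X, U) Γ(KFlatLib.pb h Ω, U') := Module.compHom _ (h.appLE U U' hU').hom
  haveI : IsScalarTower Γ(X, U) Γ(X', U') Γ(KFlatLib.pb h Ω, U') :=
    IsScalarTower.of_algebraMap_smul fun a t => by rw [hh]; rfl
  let ψ : Γ(Ω, U) →ₗ[Γ(X, U)] Γ(KFlatLib.pb h Ω, U') :=
    { toFun := KFlatLib.puSecLE h Ω hU'
      map_add' := map_add _
      map_smul' := fun r m => KFlatLib.puSecLE_smul h Ω hU' r m }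
  have hψ : IsBaseChange Γ(X', U') ψ :=
    KFlatLib.isBaseChange_puSec h Ω hU hU'a hU' (fun r => by rw [hh]) ψ fun _ => rfl
  have key : ∀ w, c.app U' (ψ (e w)) =
      e' (KaehlerDifferential.map Γ(S, V) Γ(S', V') Γ(X, U) Γ(X', U') w) := by
    intro w
    have hw : w ∈ Submodule.span Γ(X, U) (Set.range (KaehlerDifferential.D Γ(S, V) Γ(X, U))) := by
      rw [KaehlerDifferential.span_range_derivation]; trivial
    induction hw using Submodule.span_induction with
    | mem y hy =>
      obtain ⟨a, rfl⟩ := hy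
      rw [he, KaehlerDifferential.map_D, he', hh]
      exact chartMap_d hc hU' a
    | zero => simp only [map_zero]
    | add y z _ _ hy hz =>
      simp only [map_add]
      exact congrArg₂ (· + ·) hy hz
    | smul a y _ hy =>
      rw [map_smul e, map_smul (KaehlerDifferential.map Γ(S, V) Γ(S', V') Γ(X, U) Γ(X', U')),
        ← algebraMap_smul Γ(X', U') a (KaehlerDifferential.map _ _ _ _ y), map_smul e', ← hy, hh]
      exact chartMap_smul hU' a (e y)
  refine ⟨fun hbc => ?_, ?_⟩
  · have heq : ∀ z, c.app U' z = e' (hbc.equiv (TensorProduct.congr (LinearEquiv.refl _ _) e.symm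
        (hψ.equiv.symm z))) := by
      intro z
      induction z using hψ.inductionOn with
      | zero => simp only [map_zero]
      | tmul m =>
        obtain ⟨w, rfl⟩ := e.surjective m
        rw [key, show hψ.equiv.symm (ψ (e w)) = 1 ⊗ₜ e w from
          hψ.equiv.injective (by rw [LinearEquiv.apply_symm_apply, IsBaseChange.equiv_tmul, one_smul]),
          TensorProduct.congr_tmul, e.symm_apply_apply, IsBaseChange.equiv_tmul]
        simp
      | smul r z hz =>
        refine (Scheme.Modules.Hom.app_smul c r z).trans ?_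
        rw [hz, ← map_smul e', ← map_smul hbc.equiv, map_smul hψ.equiv.symm]
        congr 2
        generalize hψ.equiv.symm z = w
        induction w using TensorProduct.induction_on with
        | zero => simp
        | tmul p q => simp [TensorProduct.smul_tmul']
        | add p q hp hq => simp [smul_add, hp, hq]
      | add z z' hz hz' => simp only [map_add, hz, hz']
    exact (funext heq : (c.app U' : _ → _) = _) ▸ e'.bijective.comp
      (hbc.equiv.bijective.comp ((TensorProduct.congr (LinearEquiv.refl _ _) e.symm).bijective.comp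
        hψ.equiv.symm.bijective))
  · constructor
    · intro hs
      refine Submodule.eq_top_iff'.mpr fun w' => ?_
      obtain ⟨z, hz⟩ := hs (e' w')
      suffices ∀ z, e'.symm (c.app U' z) ∈ Submodule.span Γ(X', U')
          (Set.range (KaehlerDifferential.map Γ(S, V) Γ(S', V') Γ(X, U) Γ(X', U'))) by
        simpa [hz] using this z
      intro z
      induction z using hψ.inductionOn with
      | zero => simp
      | tmul m =>
        obtain ⟨w, rfl⟩ := e.surjective m
        rw [key, LinearEquiv.symm_apply_apply]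
        exact Submodule.subset_span ⟨w, rfl⟩
      | smul r z hz =>
        rw [show c.app U' (r • z) = r • c.app U' z from Scheme.Modules.Hom.app_smul c r z, map_smul]
        exact Submodule.smul_mem _ r hz
      | add z z' hz hz' => rw [map_add, map_add]; exact add_mem hz hz'
    · intro hs t
      obtain ⟨w', rfl⟩ := e'.surjective t
      have hw' : w' ∈ Submodule.span Γ(X', U')
          (Set.range (KaehlerDifferential.map Γ(S, V) Γ(S', V') Γ(X, U) Γ(X', U'))) := hs ▸ Submodule.mem_top
      induction hw' using Submodule.span_induction with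
      | mem y hy =>
        obtain ⟨w, rfl⟩ := hy
        exact ⟨_, key w⟩
      | zero => exact ⟨0, (map_zero _).trans (map_zero e').symm⟩
      | add y z _ _ hy hz =>
        obtain ⟨p, hp⟩ := hy
        obtain ⟨q, hq⟩ := hz
        exact ⟨p + q, by rw [map_add, hp, hq, map_add]⟩
      | smul r y _ hy =>
        obtain ⟨p, hp⟩ := hy
        exact ⟨r • p, (Scheme.Modules.Hom.app_smul c r p).trans (by rw [hp, map_smul])⟩

end OmegaAffLib

end
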