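import Mathlib.RingTheory.Kaehler.Basic
import Mathlib.RingTheory.IsTensorProduct

/-!
# Differentials as the base change of the diagonal ideal, in abstract form
-/

set_option autoImplicit false
universe u
open TensorProduct

noncomputable section

namespace OmegaAffLib

variable {R A B N M : Type u} [CommRing R] [CommRing A] [Algebra R A] [CommRing B]
  (e : A ⊗[R] A ≃+* B) (c d : A →+* B) (he : ∀ a a', e (a ⊗ₜ[R] a') = c a * d a') (δ : B →+* A)
  (hδc : ∀ a, δ (c a) = a) (hδd : ∀ a, δ (d a) = a)
  [AddCommGroup N] [Module B N] (ι : N →ₗ[B] B) (hι : Function.Injective ι)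
  (hr : ∀ b, b ∈ LinearMap.range ι ↔ δ b = 0) [AddCommGroup M] [Module A M]

theorem smul_kaehler (y : A ⊗[R] A) (w : Ω[A⁄R]) :
    y • w = Algebra.TensorProduct.lmul' R (S := A) y • w := by
  have h : y - Algebra.TensorProduct.lmul' R (S := A) y ⊗ₜ[R] (1 : A) ∈ KaehlerDifferential.ideal R A := by
    simp [KaehlerDifferential.ideal, RingHom.mem_ker]
  obtain ⟨x, rfl⟩ := KaehlerDifferential.fromIdeal_surjective R A w
  have h2 : (y - Algebra.TensorProduct.lmul' R (S := A) y ⊗ₜ[R] (1 : A)) •
      KaehlerDifferential.fromIdeal R A x = 0 := Ideal.Cotangent.smul_eq_zero_of_mem h _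
  rw [sub_smul, sub_eq_zero] at h2
  rw [h2]
  exact IsScalarTower.algebraMap_smul (A ⊗[R] A) (Algebra.TensorProduct.lmul' R (S := A) y)
    (KaehlerDifferential.fromIdeal R A x)

include he hδc hδd in
theorem δ_e (y : A ⊗[R] A) : δ (e y) = Algebra.TensorProduct.lmul' R (S := A) y := by
  induction y using TensorProduct.induction_on with
  | zero => simp
  | tmul a a' => simp [he, hδc, hδd]
  | add y y' h h' => simp [h, h']

include he hδc hδd hι hr in
/-- A semilinear-compatible map out of the base change of the diagonal ideal is bijective. -/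
theorem bijective_of_comp_D [Algebra B A] (halg : ∀ b, algebraMap B A b = δ b) [Module B M]
    [IsScalarTower B A M] (l : N →ₗ[B] M) (hl : IsBaseChange A l)
    (ψ : Ω[A⁄R] →ₗ[A] M) (hψ : ∀ a n, ι n = d a - c a → ψ (KaehlerDifferential.D R A a) = l n) :
    Function.Bijective ψ := by
  haveI : SMulCommClass R B A := ⟨fun r b a => by simp [Algebra.smul_def, mul_left_comm]⟩
  have hmem : ∀ n, e.symm (ι n) ∈ KaehlerDifferential.ideal R A := fun n => by
    have h0 := δ_e e c d he δ hδc hδd (e.symm (ι n))
    rw [e.apply_symm_apply, (hr _).mp ⟨n, rfl⟩] at h0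
    exact h0.symm
  let g : N →ₗ[B] Ω[A⁄R] :=
    { toFun := fun n => KaehlerDifferential.fromIdeal R A ⟨e.symm (ι n), hmem n⟩
      map_add' := fun n n' => by
        rw [← map_add]
        refine congrArg _ (Subtype.ext ?_)
        simp
      map_smul' := fun b n => by
        refine Eq.trans ?_ (algebraMap_smul A b _)
        show KaehlerDifferential.fromIdeal R A ⟨e.symm (ι (b • n)), hmem _⟩ =
          algebraMap B A b • KaehlerDifferential.fromIdeal R A ⟨e.symm (ι n), hmem n⟩
        rw [show (⟨e.symm (ι (b • n)), hmem _⟩ : KaehlerDifferential.ideal R A) =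
            e.symm b • ⟨e.symm (ι n), hmem n⟩ from Subtype.ext (by simp [map_smul, map_mul]),
          map_smul, smul_kaehler, halg, ← δ_e e c d he δ hδc hδd, e.apply_symm_apply] }
  let φ := hl.lift g
  have hgen : ∀ a, ∃ n, ι n = d a - c a := fun a => (hr _).mpr (by rw [map_sub, hδc, hδd, sub_self])
  have hleft : ∀ w, φ (ψ w) = w := by
    intro w
    have hw : w ∈ Submodule.span A (Set.range (KaehlerDifferential.D R A)) := by
      rw [KaehlerDifferential.span_range_derivation]; trivial
    induction hw using Submodule.span_induction with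
    | mem y hy =>
      obtain ⟨a, rfl⟩ := hy
      obtain ⟨n, hn⟩ := hgen a
      rw [hψ a n hn, show φ (l n) = g n from hl.lift_eq g n, KaehlerDifferential.D_apply]
      refine congrArg (KaehlerDifferential.ideal R A).toCotangent (Subtype.ext (e.injective ?_))
      rw [e.apply_symm_apply, hn, map_sub, he, he, map_one, map_one, one_mul, mul_one]
    | zero => simp
    | add y z _ _ hy hz => simp [hy, hz]
    | smul a y _ hy => simp [hy]
  refine ⟨Function.LeftInverse.injective hleft, fun m => ?_⟩
  suffices hs : ∀ n, l n ∈ LinearMap.range ψ by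
    induction m using hl.inductionOn with
    | zero => exact ⟨0, map_zero ψ⟩
    | tmul n => exact hs n
    | smul a m h => obtain ⟨w, rfl⟩ := h; exact ⟨a • w, map_smul ψ a w⟩
    | add m m' h h' => obtain ⟨w, rfl⟩ := h; obtain ⟨w', rfl⟩ := h'; exact ⟨w + w', map_add ψ w w'⟩
  intro n
  have hx : e.symm (ι n) ∈ Submodule.span A (Set.range fun s : A => (1 : A) ⊗ₜ[R] s - s ⊗ₜ[R] (1 : A)) := by
    rw [KaehlerDifferential.submodule_span_range_eq_ideal]
    exact hmem n
  suffices H : ∀ x ∈ Submodule.span A (Set.range fun s : A => (1 : A) ⊗ₜ[R] s - s ⊗ₜ[R] (1 : A)),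
      ∀ n, ι n = e x → l n ∈ LinearMap.range ψ from H _ hx n (e.apply_symm_apply _).symm
  intro x hx
  induction hx using Submodule.span_induction with
  | mem y hy =>
    obtain ⟨a, rfl⟩ := hy
    intro n hn
    exact ⟨_, hψ a n (by rw [hn, map_sub, he, he, map_one, map_one, one_mul, mul_one])⟩
  | zero =>
    intro n hn
    rw [hι (hn.trans ((map_zero e).trans (map_zero ι).symm)), map_zero]
    exact zero_mem _
  | add y z hy' hz' hy hz =>
    intro n hn
    have hy0 : δ (e y) = 0 := by
      rw [δ_e e c d he δ hδc hδd]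
      exact (KaehlerDifferential.submodule_span_range_eq_ideal R A).le hy'
    obtain ⟨n₁, h₁⟩ := (hr _).mpr hy0
    have h₂ : ι (n - n₁) = e z := by rw [map_sub, hn, h₁, map_add, add_sub_cancel_left]
    rw [← add_sub_cancel n₁ n, map_add]
    exact add_mem (hy n₁ h₁) (hz _ h₂)
  | smul a y hy' hy =>
    intro n hn
    have hy0 : δ (e y) = 0 := by
      rw [δ_e e c d he δ hδc hδd]
      exact (KaehlerDifferential.submodule_span_range_eq_ideal R A).le hy'
    obtain ⟨n₁, h₁⟩ := (hr _).mpr hy0
    have hn' : n = c a • n₁ := hι (by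
      rw [hn, map_smul ι, h₁, Algebra.smul_def a y, map_mul, Algebra.TensorProduct.algebraMap_apply, he, map_one,
        mul_one, smul_eq_mul]
      rfl)
    rw [hn', map_smul, ← algebraMap_smul A (c a) (l n₁), halg, hδc]
    exact Submodule.smul_mem _ a (hy n₁ h₁)

end OmegaAffLib

end
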