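import Groth.Prelude.Def_OmAff
import Groth.Agent.OmegaAffLib.Algebra
import Groth.Agent.SweepSix.ConormalSpec
import Groth.Agent.KFlatLib.AffinePull
import Groth.Agent.RpushLib.HBase
import Groth.Agent.AlgSpLib.QAffDescent

/-!
# The sheaf of differentials on affine opens
-/

set_option autoImplicit false
set_option linter.style.haveILetI false
universe u
open CategoryTheory CategoryTheory.Limits AlgebraicGeometry TopologicalSpace Opposite TensorProduct

noncomputable section

namespace OmegaAffLib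

variable {X Y : Scheme.{u}} (f : X ⟶ Y)

/-- The linear inclusion of an ideal sheaf on sections. -/
def idealIncl (P : Scheme.{u}) (J : P.IdealSheafData) (W : P.Opens) :
    Γ(ClSub.idealMod J, W) →ₗ[Γ(P, W)] Γ(P, W) where
  toFun := OmegaSh.idealSect J W
  map_add' := map_add _
  map_smul' r n := congrArg (OmegaSh.fnSect P W) (Scheme.Modules.Hom.app_smul (ClSub.idealModι J) r n)

theorem mem_range_idealIncl {P : Scheme.{u}} (J : P.IdealSheafData) (W : P.affineOpens) (b : Γ(P, W.1)) :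
    b ∈ LinearMap.range (idealIncl P J W.1) ↔ b ∈ J.ideal W := by
  rw [← Scheme.IdealSheafData.ker_subschemeι_app, RingHom.mem_ker]
  constructor
  · rintro ⟨n, rfl⟩
    refine (OmegaSh.toSubscheme_app_strSect _ J _).symm.trans ?_
    exact congr($(congrArg (fun t => Scheme.Modules.Hom.app t W.1)
      (kernel.condition (ClSub.toSubscheme J))) n)
  · intro h
    have h0 : (ClSub.toSubscheme J).app W.1 (OmegaSh.strSect P W.1 b) = 0 :=
      (OmegaSh.toSubscheme_app_strSect _ J b).trans h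
    exact ⟨OmegaSh.kerLift _ W.1 _ h0, OmegaSh.ι_kerLift _ _ _ h0⟩

variable {V : Y.Opens} {U : X.Opens}

theorem isAffineOpen_diagNbhd (hV : IsAffineOpen V) (hU : IsAffineOpen U) (h : U ≤ f ⁻¹ᵁ V) :
    IsAffineOpen (OmegaSh.diagNbhd f U) :=
  RpushLib.isAffineOpen_fibre (IsPullback.of_hasPullback f f) hV hU h hU h

theorem diag_preimage_eq (U : X.Opens) : pullback.diagonal f ⁻¹ᵁ OmegaSh.diagNbhd f U = U :=
  le_antisymm (OmegaSh.diagonal_preimage_le f le_rfl) (OmegaSh.le_preimage_diagNbhd f U)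

theorem diag_appLE_appLE (p : pullback f f ⟶ X) (hp : pullback.diagonal f ≫ p = 𝟙 X)
    (e : OmegaSh.diagNbhd f U ≤ p ⁻¹ᵁ U) (a : Γ(X, U)) :
    (pullback.diagonal f).appLE (OmegaSh.diagNbhd f U) U (OmegaSh.le_preimage_diagNbhd f U)
      (p.appLE U (OmegaSh.diagNbhd f U) e a) = a :=
  OmegaSh.res_diagonal_app_appLE f p hp U e a

theorem mem_ker_iff [QuasiSeparated f] (hW : IsAffineOpen (OmegaSh.diagNbhd f U))
    (b : Γ(pullback f f, OmegaSh.diagNbhd f U)) :
    b ∈ (pullback.diagonal f).ker.ideal ⟨_, hW⟩ ↔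
      (pullback.diagonal f).appLE (OmegaSh.diagNbhd f U) U (OmegaSh.le_preimage_diagNbhd f U) b = 0 := by
  rw [Scheme.Hom.ker_apply, RingHom.mem_ker, Scheme.Hom.appLE, ConcreteCategory.comp_apply]
  haveI : IsIso (X.presheaf.map (homOfLE (OmegaSh.le_preimage_diagNbhd f U)).op) := by
    rw [show (homOfLE (OmegaSh.le_preimage_diagNbhd f U)) = eqToHom (diag_preimage_eq f U).symm from
      Subsingleton.elim _ _]
    infer_instance
  exact (map_eq_zero_iff _ (ConcreteCategory.bijective_of_isIso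
    (X.presheaf.map (homOfLE (OmegaSh.le_preimage_diagNbhd f U)).op)).1).symm

/-- The canonical map from Kähler differentials on an affine pair is bijective. -/
theorem bijective_toSect [QuasiSeparated f] (hV : IsAffineOpen V) (hU : IsAffineOpen U) (h : U ≤ f ⁻¹ᵁ V) :
    Function.Bijective (OmAff.toSect f V U h) := by
  let P := pullback f f
  let W := OmegaSh.diagNbhd f U
  have hW : IsAffineOpen W := isAffineOpen_diagNbhd f hV hU h
  let Δ := pullback.diagonal f
  letI alg : Algebra Γ(Y, V) Γ(X, U) := (f.appLE V U h).hom.toAlgebra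
  obtain ⟨e, he⟩ := AlgSpLib.exists_tensor_equiv
    (RpushLib.isPushout_sections (IsPullback.of_hasPullback f f) hV hU h hU h) rfl rfl
  let J := Δ.ker
  letI algδ : Algebra Γ(P, W) Γ(X, U) := (Δ.appLE W U (OmegaSh.le_preimage_diagNbhd f U)).hom.toAlgebra
  haveI : Coh.IsQCoh (ClSub.idealMod J) := SweepSix.ConormalSpec.isQCoh_idealMod J
  let M := Γ(KFlatLib.pb Δ (ClSub.idealMod J), U)
  letI : Module Γ(P, W) M := Module.compHom M (Δ.appLE W U (OmegaSh.le_preimage_diagNbhd f U)).hom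
  haveI : IsScalarTower Γ(P, W) Γ(X, U) M := IsScalarTower.of_algebraMap_smul fun _ _ => rfl
  let l : Γ(ClSub.idealMod J, W) →ₗ[Γ(P, W)] M :=
    { toFun := KFlatLib.puSecLE Δ (ClSub.idealMod J) (OmegaSh.le_preimage_diagNbhd f U)
      map_add' := map_add _
      map_smul' := fun r m => KFlatLib.puSecLE_smul Δ _ (OmegaSh.le_preimage_diagNbhd f U) r m }
  have hl : IsBaseChange Γ(X, U) l :=
    KFlatLib.isBaseChange_puSec Δ (ClSub.idealMod J) hW hU (OmegaSh.le_preimage_diagNbhd f U) (fun _ => rfl) l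
      fun _ => rfl
  let ψ : Ω[Γ(X, U)⁄Γ(Y, V)] →ₗ[Γ(X, U)] M := (OmAff.toSect f V U h).hom
  refine bijective_of_comp_D e ((pullback.fst f f).appLE U W inf_le_left).hom
    ((pullback.snd f f).appLE U W inf_le_right).hom he
    (Δ.appLE W U (OmegaSh.le_preimage_diagNbhd f U)).hom
    (diag_appLE_appLE f _ (pullback.diagonal_fst f) _) (diag_appLE_appLE f _ (pullback.diagonal_snd f) _)
    (idealIncl P J W) (OmegaSh.idealModι_app_injective _ J) (fun b => ?_) (fun _ => rfl) l hl ψ fun a n hn => ?_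
  · exact (mem_range_idealIncl J ⟨W, hW⟩ b).trans (mem_ker_iff f hW b)
  · refine (OmAff.toSect_d f V U h a).trans ?_
    have hn' : n = OmegaSh.idealLift f U a := OmegaSh.idealModι_app_injective _ J (by
      rw [OmegaSh.ι_idealLift]
      exact hn)
    rw [hn']
    rfl

theorem isIso_toSect [QuasiSeparated f] (hV : IsAffineOpen V) (hU : IsAffineOpen U) (h : U ≤ f ⁻¹ᵁ V) :
    IsIso (OmAff.toSect f V U h) :=
  (ConcreteCategory.isIso_iff_bijective _).mpr (bijective_toSect f hV hU h)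

end OmegaAffLib

end

namespace OmegaAffLib

/-- The global-sections form of the comparison. -/
theorem bijective_toSpec (A B : Type u) [CommRing A] [CommRing B] [Algebra A B] :
    Function.Bijective (OmAff.toSpec A B) := by
  let g : Spec (CommRingCat.of B) ⟶ Spec (CommRingCat.of A) := Spec.map (CommRingCat.ofHom (algebraMap A B))
  let φ : Γ(Spec (CommRingCat.of A), ⊤) ⟶ Γ(Spec (CommRingCat.of B), ⊤) := g.appLE ⊤ ⊤ (le_of_eq rfl)
  have hb := bijective_toSect g (isAffineOpen_top _) (isAffineOpen_top _) (le_of_eq rfl)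
  let σ : Γ(Spec (CommRingCat.of B), ⊤) →+* B := (Scheme.ΓSpecIso (CommRingCat.of B)).hom.hom
  have hσ : ∀ b, OmAff.toΓ B (σ b) = b := fun b => Iso.hom_inv_id_apply (Scheme.ΓSpecIso (CommRingCat.of B)) b
  have hσ' : ∀ b, σ (OmAff.toΓ B b) = b := fun b => Iso.inv_hom_id_apply (Scheme.ΓSpecIso (CommRingCat.of B)) b
  let := Module.compHom (Ω[B⁄A]) σ
  have hφ : ∀ c, ∃ a : A, σ (φ c) = algebraMap A B a := fun c => by
    obtain ⟨a, ha⟩ := (ConcreteCategory.bijective_of_isIso (Scheme.ΓSpecIso (CommRingCat.of A)).inv).2 c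
    refine ⟨a, ?_⟩
    rw [← ha]
    have e : φ (OmAff.toΓ A a) = g.appTop (OmAff.toΓ A a) := by
      change (g.app ⊤ ≫ (Spec (CommRingCat.of B)).presheaf.map _) _ = _
      rw [show (homOfLE _ : (⊤ : (Spec (CommRingCat.of B)).Opens) ⟶ g ⁻¹ᵁ ⊤).op = 𝟙 (op ⊤) from Subsingleton.elim _ _]
      erw [CategoryTheory.Functor.map_id, Category.comp_id]
    refine (congrArg σ e).trans ?_
    rw [OmAff.appTop_toΓ, hσ']
  let D : (ModuleCat.of Γ(Spec (CommRingCat.of B), ⊤) (Ω[B⁄A])).Derivation φ :=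
    ModuleCat.Derivation.mk (fun b => KaehlerDifferential.D A B (σ b))
      (fun a b => by rw [map_add]; exact map_add _ _ _)
      (fun a b => by
        rw [map_mul, Derivation.leibniz]
        rfl)
      (fun c => by
        obtain ⟨a, ha⟩ := hφ c
        show KaehlerDifferential.D A B (σ (φ c)) = 0
        rw [ha, Derivation.map_algebraMap])
  have hD : ∀ (w : Ω[B⁄A]), ∃ z, (OmAff.toSect g ⊤ ⊤ (le_of_eq rfl)).hom z = OmAff.toSpec A B w ∧ D.desc.hom z = w := by
    intro w
    have hw : w ∈ Submodule.span B (Set.range (KaehlerDifferential.D A B)) := by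
      rw [KaehlerDifferential.span_range_derivation]; trivial
    induction hw using Submodule.span_induction with
    | mem y hy =>
      obtain ⟨b, rfl⟩ := hy
      refine ⟨CommRingCat.KaehlerDifferential.d (OmAff.toΓ B b), ?_, ?_⟩
      · exact (OmAff.toSect_d g ⊤ ⊤ _ _).trans (OmAff.toSpec_D A B b).symm
      · exact (D.desc_d _).trans (congrArg (KaehlerDifferential.D A B) (hσ' b))
    | zero => exact ⟨0, (map_zero _).trans (map_zero _).symm, map_zero _⟩
    | add y z _ _ hy hz =>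
      obtain ⟨p, hp, hp'⟩ := hy
      obtain ⟨q, hq, hq'⟩ := hz
      exact ⟨p + q, by rw [map_add, hp, hq, map_add], by rw [map_add, hp', hq']⟩
    | smul b y _ hy =>
      obtain ⟨p, hp, hp'⟩ := hy
      refine ⟨OmAff.toΓ B b • p, by rw [map_smul, hp, LinearMap.map_smulₛₗ], ?_⟩
      refine (map_smul D.desc.hom _ p).trans ?_
      rw [hp']
      show σ (OmAff.toΓ B b) • y = b • y
      rw [hσ']
  refine ⟨fun w w' h => ?_, fun m => ?_⟩
  · obtain ⟨z, hz, hz'⟩ := hD w
    obtain ⟨z', hz₂, hz₂'⟩ := hD w'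
    rw [← hz', ← hz₂', show z = z' from hb.1 (hz.trans (h.trans hz₂.symm))]
  · obtain ⟨z, rfl⟩ := hb.2 m
    let := φ.hom.toAlgebra
    have hz : z ∈ Submodule.span Γ(Spec (CommRingCat.of B), ⊤)
        (Set.range (_root_.KaehlerDifferential.D Γ(Spec (CommRingCat.of A), ⊤) Γ(Spec (CommRingCat.of B), ⊤))) := by
      rw [_root_.KaehlerDifferential.span_range_derivation]; trivial
    induction hz using Submodule.span_induction with
    | mem y hy =>
      obtain ⟨b, rfl⟩ := hy
      refine ⟨KaehlerDifferential.D A B (σ b), ?_⟩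
      rw [OmAff.toSpec_D, hσ]
      exact (OmAff.toSect_d g ⊤ ⊤ _ b).symm
    | zero => exact ⟨0, (map_zero _).trans (map_zero (OmAff.toSect g ⊤ ⊤ _).hom).symm⟩
    | add y z _ _ hy hz =>
      obtain ⟨p, hp⟩ := hy
      obtain ⟨q, hq⟩ := hz
      exact ⟨p + q, (map_add _ _ _).trans ((congrArg₂ (· + ·) hp hq).trans (map_add (OmAff.toSect g ⊤ ⊤ _).hom y z).symm)⟩
    | smul b y _ hy =>
      obtain ⟨p, hp⟩ := hy
      refine ⟨σ b • p, ?_⟩
      refine (LinearMap.map_smulₛₗ _ _ _).trans ((congrArg₂ (· • ·) (hσ b) hp).trans ?_)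
      exact (map_smul (OmAff.toSect g ⊤ ⊤ _).hom b y).symm

end OmegaAffLib
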