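import Groth.Agent.OmegaAffLib.Exact
import Groth.Agent.OmegaAffLib.Apps

/-!
# Differentials of a fibre product
-/

set_option autoImplicit false
set_option linter.style.haveILetI false
universe u
open CategoryTheory CategoryTheory.Limits AlgebraicGeometry TopologicalSpace Opposite

noncomputable section

namespace OmegaAffLib

/-- A derivation relative to the middle scheme is one relative to the bottom one. -/
def restrictScalarsDer {X Y Z : Scheme.{u}} {f : X ⟶ Y} {g : Y ⟶ Z} {h : X ⟶ Z} (w : f ≫ g = h) {M : X.Modules} (D : OmegaSh.Der f M) : OmegaSh.Der h M where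
  d {W} := D.d (X := W)
  d_mul {W} a b := D.d_mul a b
  d_map {W W'} i a := D.d_map i a
  d_app {O} s := by
    subst w
    show D.app (f ⁻¹ᵁ (g ⁻¹ᵁ O.unop)) ((f ≫ g).app O.unop s) = 0
    exact D.d_app (X := op (g ⁻¹ᵁ O.unop)) (g.app O.unop s)

variable {X Y Z : Scheme.{u}} {f : X ⟶ Y} {g : Y ⟶ Z} {h : X ⟶ Z}
  {ΩY : Y.Modules} {dY : OmegaSh.Der g ΩY} {ΩX : X.Modules} {dX : OmegaSh.Der h ΩX}
  {c : (Scheme.Modules.pullback f).obj ΩY ⟶ ΩX}

/-- The derivation into the cokernel of the canonical map. -/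
def cokerDer (hc : OmegaSh.IsDiffCompat f dY dX c) : OmegaSh.Der f (cokernel c) where
  d {W} := (dX.postcomp (cokernel.π c).val).d (X := W)
  d_mul {W} a b := (dX.postcomp (cokernel.π c).val).d_mul a b
  d_map {W W'} i a := (dX.postcomp (cokernel.π c).val).d_map i a
  d_app {O} s := by
    show (cokernel.π c).app (f ⁻¹ᵁ O.unop) (dX.app (f ⁻¹ᵁ O.unop) (f.app O.unop s)) = 0
    rw [← hc O.unop s, ← ConcreteCategory.comp_apply, ← Scheme.Modules.Hom.comp_app, cokernel.condition]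
    rfl

/-- The cokernel of the canonical map is a sheaf of relative differentials. -/
theorem isUniversal_cokerDer (w : f ≫ g = h) (hY : OmegaSh.IsUniversal dY) (hX : OmegaSh.IsUniversal dX)
    (hc : OmegaSh.IsDiffCompat f dY dX c) : OmegaSh.IsUniversal (cokerDer hc) := by
  intro M D
  obtain ⟨φ, hφ, hu⟩ := hX M (restrictScalarsDer w D)
  have hval : ∀ (U : X.Opens) (s : Γ(X, U)), φ.app U (dX.app U s) = D.app U s := fun U s =>
    congrArg (fun E : OmegaSh.Der h M => E.app U s) hφ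
  have h0 : c ≫ φ = 0 := hom_ext_pullback hY fun U s => by
    rw [Scheme.Modules.Hom.comp_app, ConcreteCategory.comp_apply, hc U s, hval]
    exact D.d_app (X := op U) s
  refine ⟨cokernel.desc c φ h0, PresheafOfModules.Derivation.ext ?_, fun β hβ => ?_⟩
  · funext W
    ext s
    show (cokernel.π c ≫ cokernel.desc c φ h0).app W.unop (dX.app W.unop s) = D.app W.unop s
    rw [cokernel.π_desc]
    exact hval _ s
  · rw [← cancel_epi (cokernel.π c), cokernel.π_desc]
    refine hu _ (PresheafOfModules.Derivation.ext ?_)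
    funext W
    ext s
    exact congrArg (fun E : OmegaSh.Der f M => E.app W.unop s) hβ

theorem isIso_coprod_desc {S P : Scheme.{u}} {a : X ⟶ S} {b : Y ⟶ S} {p : P ⟶ X} {q : P ⟶ Y} {k : P ⟶ S}
    (wp : p ≫ a = k) (wq : q ≫ b = k) (hP : IsPullback p q a b)
    {ΩX : X.Modules} {dX : OmegaSh.Der a ΩX} (hX : OmegaSh.IsUniversal dX)
    {ΩY : Y.Modules} {dY : OmegaSh.Der b ΩY} (hY : OmegaSh.IsUniversal dY)
    {ΩP : P.Modules} {dP : OmegaSh.Der k ΩP} (hPu : OmegaSh.IsUniversal dP)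
    {c₁ : (Scheme.Modules.pullback p).obj ΩX ⟶ ΩP} (hc₁ : OmegaSh.IsDiffCompat p dX dP c₁)
    {c₂ : (Scheme.Modules.pullback q).obj ΩY ⟶ ΩP} (hc₂ : OmegaSh.IsDiffCompat q dY dP c₂) :
    IsIso (coprod.desc c₁ c₂) := by
  haveI h1 : IsIso (c₁ ≫ cokernel.π c₂) := isIso_of_isPullback hP hX (isUniversal_cokerDer wq hY hPu hc₂)
    (fun U s => (congrArg ((cokernel.π c₂).app (p ⁻¹ᵁ U)) (hc₁ U s) :))
  haveI h2 : IsIso (c₂ ≫ cokernel.π c₁) := isIso_of_isPullback hP.flip hY (isUniversal_cokerDer wp hX hPu hc₁)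
    (fun U s => (congrArg ((cokernel.π c₁).app (q ⁻¹ᵁ U)) (hc₂ U s) :))
  let π₁ : ΩP ⟶ _ := cokernel.π c₂ ≫ inv (c₁ ≫ cokernel.π c₂)
  let π₂ : ΩP ⟶ _ := cokernel.π c₁ ≫ inv (c₂ ≫ cokernel.π c₁)
  have e11 : c₁ ≫ π₁ = 𝟙 _ := by rw [← Category.assoc, IsIso.hom_inv_id]
  have e22 : c₂ ≫ π₂ = 𝟙 _ := by rw [← Category.assoc, IsIso.hom_inv_id]
  have e12 : c₁ ≫ π₂ = 0 := by rw [← Category.assoc, cokernel.condition, zero_comp]
  have e21 : c₂ ≫ π₁ = 0 := by rw [← Category.assoc, cokernel.condition, zero_comp]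
  have hid : π₁ ≫ c₁ + π₂ ≫ c₂ = 𝟙 ΩP := by
    rw [← sub_eq_zero]
    generalize he : π₁ ≫ c₁ + π₂ ≫ c₂ - 𝟙 ΩP = e
    have k1 : c₁ ≫ e = 0 := by
      rw [← he, Preadditive.comp_sub, Preadditive.comp_add, ← Category.assoc, e11, ← Category.assoc, e12]
      simp
    have k2 : c₂ ≫ e = 0 := by
      rw [← he, Preadditive.comp_sub, Preadditive.comp_add, ← Category.assoc, e21, ← Category.assoc, e22]
      simp
    rw [← cokernel.π_desc c₂ e k2] at k1 ⊢
    rw [← Category.assoc, ← cancel_epi (inv (c₁ ≫ cokernel.π c₂)), IsIso.inv_hom_id_assoc, comp_zero] at k1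
    rw [k1, comp_zero]
  refine ⟨π₁ ≫ coprod.inl + π₂ ≫ coprod.inr, coprod.hom_ext ?_ ?_, ?_⟩
  · rw [coprod.inl_desc_assoc, Preadditive.comp_add, ← Category.assoc, e11, ← Category.assoc, e12]
    simp
  · rw [coprod.inr_desc_assoc, Preadditive.comp_add, ← Category.assoc, e21, ← Category.assoc, e22]
    simp
  · rw [Preadditive.add_comp, Category.assoc π₁, Category.assoc π₂, coprod.inl_desc, coprod.inr_desc, hid]

end OmegaAffLib

end
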