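import Groth.Agent.OmegaAffLib.Universal

/-!
# Restriction of a universal derivation to opens
-/

set_option autoImplicit false
set_option linter.style.haveILetI false
universe u
open CategoryTheory CategoryTheory.Limits AlgebraicGeometry TopologicalSpace Opposite
open ModGlueLib (rs rs_rs)

noncomputable section

namespace OmegaAffLib

variable {X Y : Scheme.{u}} {f : X ⟶ Y} {Ω' : X.Modules} (d : OmegaSh.Der f Ω')
variable (V : Y.Opens) (U : X.Opens) (h : U ≤ f ⁻¹ᵁ V)

/-- The derivation restricted to `U ⟶ V`. -/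
def restrictDer : OmegaSh.Der (f.resLE V U h) (Ω'.restrict U.ι) where
  d {W} := d.app (U.ι ''ᵁ W.unop)
  d_mul {W} a b := by
    show d.app (U.ι ''ᵁ W.unop) (a * b) =
      (U.ι.appIso W.unop).inv a • d.app (U.ι ''ᵁ W.unop) b + (U.ι.appIso W.unop).inv b • d.app (U.ι ''ᵁ W.unop) a
    rw [Scheme.Opens.ι_appIso]
    exact der_mul d (U.ι ''ᵁ W.unop) a b
  d_map {W W'} i a := der_rs d (U.ι.image_mono i.unop.le) a
  d_app {O} c := by
    show d.app (U.ι ''ᵁ ((f.resLE V U h) ⁻¹ᵁ O.unop)) ((f.resLE V U h).app O.unop c) = 0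
    rw [show (f.resLE V U h).app O.unop = (f.resLE V U h).appLE O.unop _ le_rfl from
      (Scheme.Hom.app_eq_appLE _), Scheme.Hom.resLE_appLE]
    exact der_appLE d _ _ _ c

variable {d V U h}

theorem restrictDer_app (W : (U : Scheme.{u}).Opens) (a : Γ((U : Scheme.{u}), W)) :
    (restrictDer d V U h).app W a = d.app (U.ι ''ᵁ W) a := rfl

/-- A derivation on `U` as a derivation into the direct image. -/
def pushDer {G : (U : Scheme.{u}).Modules} (E : OmegaSh.Der (f.resLE V U h) G) :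
    OmegaSh.Der f ((Scheme.Modules.pushforward U.ι).obj G) where
  d {W} := (E.app (U.ι ⁻¹ᵁ W.unop)).comp (U.ι.app W.unop).hom.toAddMonoidHom
  d_mul {W} a b := by
    show E.app _ (U.ι.app W.unop (a * b)) = U.ι.app W.unop a • E.app _ (U.ι.app W.unop b) +
      U.ι.app W.unop b • E.app _ (U.ι.app W.unop a)
    rw [map_mul]
    exact der_mul E _ _ _
  d_map {W W'} i a := by
    show E.app _ (U.ι.app W'.unop (X.presheaf.map i a)) = _
    refine (congrArg (E.app _) (congr($(U.ι.naturality i) a))).trans ?_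
    exact der_rs E (U.ι.preimage_mono i.unop.le) (U.ι.app W.unop a)
  d_app {O} c := by
    show E.app _ (U.ι.app (f ⁻¹ᵁ O.unop) (f.app O.unop c)) = 0
    have e : (f.resLE V U h ≫ V.ι) ⁻¹ᵁ O.unop = (U.ι ≫ f) ⁻¹ᵁ O.unop := by
      rw [Scheme.Hom.resLE_comp_ι]
    have h1 : f.app O.unop ≫ U.ι.app (f ⁻¹ᵁ O.unop) = (U.ι ≫ f).appLE O.unop (U.ι ⁻¹ᵁ f ⁻¹ᵁ O.unop) le_rfl :=
      by rw [← Scheme.Hom.comp_app, Scheme.Hom.app_eq_appLE]; rfl
    have h2 : (U.ι ≫ f).appLE O.unop (U.ι ⁻¹ᵁ f ⁻¹ᵁ O.unop) le_rfl =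
        V.ι.app O.unop ≫ (f.resLE V U h).appLE (V.ι ⁻¹ᵁ O.unop) (U.ι ⁻¹ᵁ f ⁻¹ᵁ O.unop) e.ge := by
      rw [← Scheme.Hom.comp_appLE]
      exact OmegaSh.appLE_congr_hom (Scheme.Hom.resLE_comp_ι f h).symm _ _
    rw [← ConcreteCategory.comp_apply, h1, h2, ConcreteCategory.comp_apply]
    exact der_appLE E _ _ _ _

theorem isUniversal_restrictDer (hd : OmegaSh.IsUniversal d) :
    OmegaSh.IsUniversal (restrictDer d V U h) := by
  intro G E
  obtain ⟨α, hα, huniq⟩ := hd _ (pushDer E)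
  refine ⟨(Scheme.Modules.restrictFunctor U.ι).map α ≫ (Scheme.Modules.restrictAdjunction U.ι).counit.app G,
    PresheafOfModules.Derivation.ext ?_, fun β hβ => ?_⟩
  · funext W
    ext s
    have h1 : α.app (U.ι ''ᵁ W.unop) (d.app (U.ι ''ᵁ W.unop) s) =
        E.app (U.ι ⁻¹ᵁ U.ι ''ᵁ W.unop) (U.ι.app (U.ι ''ᵁ W.unop) s) :=
      congrArg (fun D : OmegaSh.Der f _ => D.app (U.ι ''ᵁ W.unop) s) hα
    show G.presheaf.map (eqToHom (U.ι.preimage_image_eq W.unop).symm).op
      (α.app (U.ι ''ᵁ W.unop) (d.app (U.ι ''ᵁ W.unop) s)) = E.app W.unop s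
    rw [h1]
    refine (E.d_map (eqToHom (U.ι.preimage_image_eq W.unop).symm).op _).symm.trans ?_
    refine congrArg (E.app W.unop) ?_
    change (X.presheaf.map _ ≫ X.presheaf.map _) s = s
    rw [← Functor.map_comp]
    exact congr($(X.presheaf.map_id _) s)
  · have e : (Scheme.Modules.restrictAdjunction U.ι).homEquiv _ _ β = α := by
      refine huniq _ (PresheafOfModules.Derivation.ext ?_)
      funext W
      ext s
      rw [Adjunction.homEquiv_unit]
      show β.app (U.ι ⁻¹ᵁ W.unop) (rs Ω' (U.ι.image_preimage_le W.unop) (d.app W.unop s)) =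
        E.app (U.ι ⁻¹ᵁ W.unop) (U.ι.app W.unop s)
      rw [← der_rs]
      exact congrArg (fun D : OmegaSh.Der (f.resLE V U h) G => D.app (U.ι ⁻¹ᵁ W.unop)
        (X.presheaf.map (homOfLE (U.ι.image_preimage_le W.unop)).op s)) hβ
    rw [← e, Adjunction.homEquiv_unit]
    exact ((Scheme.Modules.restrictAdjunction U.ι).homEquiv_counit _ _ _).symm.trans (by
      rw [← Adjunction.homEquiv_unit, Equiv.symm_apply_apply]) |>.symm

/-- Two universal derivations have isomorphic receptacles, compatibly. -/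
theorem exists_iso_of_isUniversal {Ω₂ : X.Modules} {d' : OmegaSh.Der f Ω₂} (hd : OmegaSh.IsUniversal d)
    (hd' : OmegaSh.IsUniversal d') :
    ∃ e : Ω' ≅ Ω₂, ∀ (W : X.Opens) (s : Γ(X, W)), e.hom.app W (d.app W s) = d'.app W s := by
  obtain ⟨α, hα, -⟩ := hd _ d'
  obtain ⟨β, hβ, -⟩ := hd' _ d
  have ha : ∀ (W : X.Opens) (s : Γ(X, W)), α.app W (d.app W s) = d'.app W s := fun W s =>
    congrArg (fun D : OmegaSh.Der f Ω₂ => D.app W s) hα
  have hb : ∀ (W : X.Opens) (s : Γ(X, W)), β.app W (d'.app W s) = d.app W s := fun W s =>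
    congrArg (fun D : OmegaSh.Der f Ω' => D.app W s) hβ
  refine ⟨⟨α, β, ?_, ?_⟩, ha⟩
  · refine (hd _ d).unique ?_ ?_
    · refine PresheafOfModules.Derivation.ext ?_
      funext W
      ext s
      exact (congrArg (β.app W.unop) (ha W.unop s)).trans (hb W.unop s)
    · exact PresheafOfModules.Derivation.ext rfl
  · refine (hd' _ d').unique ?_ ?_
    · refine PresheafOfModules.Derivation.ext ?_
      funext W
      ext s
      exact (congrArg (α.app W.unop) (hb W.unop s)).trans (ha W.unop s)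
    · exact PresheafOfModules.Derivation.ext rfl

end OmegaAffLib

end
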